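import Cfsg.Agent.Lib.SmallGroups.SRG77.Local

/-!
# The class graph has parameters `(15, 6, 1, 3)`; cocliques of size 21 through two vertices
-/

set_option autoImplicit false

namespace CfsgLib.SmallGroups.SRG77

open Finset

variable {V : Type*} [Fintype V] [DecidableEq V] (G : SimpleGraph V) [DecidableRel G.Adj] (v : V)

/-- The parallel classes. -/
abbrev Cl : Type _ := {c : Finset V // c ∈ (far G v).image fun w => cls G v w}

/-- Two classes are joined when their traces meet in no or two points. -/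
def clGraph : SimpleGraph (Cl G v) where
  Adj c d := c ≠ d ∧ ∀ u ∈ c.1, ∀ w ∈ d.1, meet G v u w ≠ 1
  symm := ⟨fun c d h => ⟨h.1.symm, fun u hu w hw => by rw [meet_comm]; exact h.2 w hw u hu⟩⟩
  loopless := ⟨fun c h => h.1 rfl⟩

noncomputable instance : DecidableRel (clGraph G v).Adj := fun _ _ => Classical.propDecidable _

variable {G v}

theorem clGraph_adj {c d : Cl G v} :
    (clGraph G v).Adj c d ↔ c ≠ d ∧ ∀ u ∈ c.1, ∀ w ∈ d.1, meet G v u w ≠ 1 := Iff.rfl

variable (hG : G.IsSRGWith 77 16 0 4)
include hG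

theorem cls_of_mem (c : Cl G v) {u : V} (hu : u ∈ c.1) : u ∈ far G v ∧ c.1 = cls G v u := by
  obtain ⟨w, hw, hc⟩ := mem_image.1 c.2
  rw [← hc] at hu ⊢
  exact ⟨cls_far hw hu, (cls_eq hG hw hu).symm⟩

theorem cl_nonempty (c : Cl G v) : ∃ u, u ∈ c.1 := by
  obtain ⟨w, -, hc⟩ := mem_image.1 c.2
  exact ⟨w, hc ▸ self_mem_cls G v w⟩

theorem cl_card (c : Cl G v) : c.1.card = 4 := by
  obtain ⟨w, hw, hc⟩ := mem_image.1 c.2
  rw [← hc, card_cls hG hw]

theorem cl_unique {c d : Cl G v} {u : V} (hc : u ∈ c.1) (hd : u ∈ d.1) : c = d :=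
  Subtype.ext ((cls_of_mem hG c hc).2.trans (cls_of_mem hG d hd).2.symm)

theorem not_mem_other {c d : Cl G v} (h : c ≠ d) {u : V} (hu : u ∈ c.1) : u ∉ d.1 :=
  fun hd => h (cl_unique hG hu hd)

/-- The class of a vertex. -/
theorem exists_cl {u : V} (hu : u ∈ far G v) : ∃ c : Cl G v, u ∈ c.1 :=
  ⟨⟨cls G v u, mem_image_of_mem _ hu⟩, self_mem_cls G v u⟩

theorem all_one_of_not_adj {c d : Cl G v} (hcd : c ≠ d) (h : ¬ (clGraph G v).Adj c d) :
    ∀ u ∈ c.1, ∀ w ∈ d.1, meet G v u w = 1 := by
  rw [clGraph_adj] at h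
  push Not at h
  obtain ⟨a, ha, b, hb, hab⟩ := h hcd
  intro u hu w hw
  have key : ∀ (e f : Cl G v), e ≠ f → ∀ x ∈ e.1, ∀ y ∈ f.1, meet G v x y = 1 →
      ∀ z ∈ f.1, meet G v x z = 1 := by
    intro e f hef x hx y hy hxy z hz
    obtain ⟨hxf, -⟩ := cls_of_mem hG e hx
    obtain ⟨hyf, hf⟩ := cls_of_mem hG f hy
    rw [hf] at hy hz
    rcases all_or_none hG hyf hxf (hf ▸ not_mem_other hG hef hx) with h | h
    · rw [meet_comm]; exact h z hz
    · exact absurd (meet_comm (G := G) v x y ▸ hxy) (h y hy)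
  have h1 := key c d hcd a ha b hb hab w hw
  rw [meet_comm] at h1
  have h2 := key d c hcd.symm w hw a ha h1 u hu
  rwa [meet_comm] at h2

/-- Neighbours of a vertex in a class. -/
theorem nbrs_in_class {c d : Cl G v} {u : V} (hu : u ∈ c.1) :
    (d.1.filter fun z => G.Adj u z).card = if (clGraph G v).Adj c d then 2 else 0 := by
  classical
  obtain ⟨hufar, hcu⟩ := cls_of_mem hG c hu
  by_cases hcd : c = d
  · subst hcd
    rw [if_neg ((clGraph G v).irrefl), card_eq_zero, filter_eq_empty_iff]
    intro z hz h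
    exact (cls_pairwise hG hufar (self_mem_cls G v u) (hcu ▸ hz) h.ne).1 h
  by_cases hadj : (clGraph G v).Adj c d
  · rw [if_pos hadj]
    obtain ⟨y, hy⟩ := cl_nonempty hG d
    obtain ⟨hyf, hd⟩ := cls_of_mem hG d hy
    have hsum := sum_meet_cls hG hyf hufar
    have hiff : ∀ t ∈ d.1, (G.Adj u t ↔ meet G v t u = 0) := fun t ht =>
      ⟨fun h => meet_eq_zero_of_adj hG h.symm,
        fun h => (adj_of_disjoint hG hyf hufar (hd ▸ not_mem_other hG hcd hu) (hd ▸ ht) h).symm⟩
    rw [filter_congr hiff]
    have hval : ∀ t ∈ d.1, meet G v t u = 2 * (if meet G v t u = 0 then 0 else 1) := fun t ht => by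
      have h2 := meet_le_two hG (cls_of_mem hG d ht).1 hufar fun e => not_mem_other hG hcd hu (e ▸ ht)
      have h1 := hadj.2 u hu t ht
      rw [meet_comm] at h1
      split_ifs <;> omega
    rw [← hd, sum_congr rfl hval, ← mul_sum, sum_ite, sum_const_zero, zero_add, sum_const,
      smul_eq_mul, mul_one] at hsum
    have h4 := card_filter_add_card_filter_not (s := d.1) (fun t => meet G v t u = 0)
    rw [cl_card hG] at h4
    omega
  · rw [if_neg hadj, card_eq_zero, filter_eq_empty_iff]
    intro z hz h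
    have := all_one_of_not_adj hG hcd hadj u hu z hz
    rw [meet_eq_zero_of_adj hG h] at this
    omega

theorem far_eq_biUnion : (univ : Finset (Cl G v)).biUnion (fun c => c.1) = far G v := by
  ext u
  simp only [mem_biUnion, mem_univ, true_and]
  exact ⟨fun ⟨c, hc⟩ => (cls_of_mem hG c hc).1, fun hu => exists_cl hG hu⟩

theorem cl_disjoint : Set.PairwiseDisjoint ((univ : Finset (Cl G v)) : Set (Cl G v)) (fun c => c.1) :=
  fun _ _ _ _ h => disjoint_left.2 fun _ hu hd => h (cl_unique hG hu hd)

theorem card_far_filter (P : V → Prop) [DecidablePred P] :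
    ((far G v).filter P).card = ∑ c : Cl G v, (c.1.filter P).card := by
  conv_lhs => rw [← far_eq_biUnion hG]
  rw [filter_biUnion, card_biUnion fun c hc d hd h =>
    (cl_disjoint hG hc hd h).mono (filter_subset _ _) (filter_subset _ _)]

theorem card_cl : Fintype.card (Cl G v) = 15 := by
  have h := congrArg card (far_eq_biUnion (v := v) hG)
  rw [card_biUnion (cl_disjoint hG), sum_congr rfl fun c _ => cl_card hG c, sum_const, card_univ,
    card_far hG, smul_eq_mul] at h
  omega

theorem clGraph_degree (c : Cl G v) : (univ.filter fun d => (clGraph G v).Adj c d).card = 6 := by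
  classical
  obtain ⟨u, hu⟩ := cl_nonempty hG c
  have h := nbrs_far hG (cls_of_mem hG c hu).1
  rw [card_far_filter hG, sum_congr rfl fun d _ => nbrs_in_class hG hu, sum_ite, sum_const_zero,
    add_zero, sum_const, smul_eq_mul] at h
  omega

/-- Common neighbours away from `v`. -/
theorem common_far {u z : V} (hu : u ∈ far G v) (hz : z ∈ far G v) (hne : u ≠ z) :
    ((far G v).filter fun x => G.Adj u x ∧ G.Adj z x).card =
      if G.Adj u z then 0 else 4 - meet G v u z := by
  classical
  split_ifs with h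
  · rw [card_eq_zero, filter_eq_empty_iff]
    exact fun x _ hx => no_triangle hG h hx.1 hx.2
  · have h1 := card_filter_add_card_filter_not (s := common G u z) (fun x => G.Adj v x)
    rw [card_common hG hne h] at h1
    have h2 : (common G u z).filter (fun x => G.Adj v x) = common G v u ∩ common G v z := by
      ext x; simp only [mem_filter, mem_inter, mem_common]; tauto
    have h3 : (common G u z).filter (fun x => ¬ G.Adj v x) =
        (far G v).filter fun x => G.Adj u x ∧ G.Adj z x := by
      ext x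
      simp only [mem_filter, mem_common, mem_far]
      exact ⟨fun h => ⟨⟨fun e => (mem_far.1 hu).2 (e ▸ h.1.1).symm, h.2⟩, h.1⟩,
        fun h => ⟨h.2, h.1.2⟩⟩
    rw [h2, h3, ← meet] at h1
    omega

theorem four_common {c d : Cl G v} (hcd : c ≠ d) {u : V} (hu : u ∈ c.1) :
    ∑ z ∈ d.1, ((far G v).filter fun x => G.Adj u x ∧ G.Adj z x).card =
      4 * (univ.filter fun e => (clGraph G v).Adj c e ∧ (clGraph G v).Adj d e).card := by
  classical
  have h1 : ∀ z, ((far G v).filter fun x => G.Adj u x ∧ G.Adj z x).card =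
      ∑ e : Cl G v, ∑ x ∈ e.1.filter (fun x => G.Adj u x), if G.Adj z x then 1 else 0 := fun z => by
    rw [card_far_filter hG]
    refine sum_congr rfl fun e _ => ?_
    rw [← card_filter, filter_filter]
  simp only [h1]
  rw [sum_comm]
  have h2 : ∀ e : Cl G v, (∑ z ∈ d.1, ∑ x ∈ e.1.filter (fun x => G.Adj u x), if G.Adj z x then 1 else 0) =
      (if (clGraph G v).Adj c e ∧ (clGraph G v).Adj d e then 4 else 0 : ℕ) := by
    intro e
    rw [sum_comm, sum_congr rfl (g := fun _ => if (clGraph G v).Adj e d then 2 else 0) fun x hx => ?_,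
      sum_const, nbrs_in_class hG hu, smul_eq_mul]
    · by_cases a : (clGraph G v).Adj c e <;> by_cases b : (clGraph G v).Adj d e <;>
        simp [a, b, (clGraph G v).adj_comm e d]
    · rw [← card_filter]
      simp only [G.adj_comm _ x]
      exact nbrs_in_class hG (mem_filter.1 hx).1
  rw [sum_congr rfl fun e _ => h2 e, sum_ite, sum_const_zero, add_zero, sum_const, smul_eq_mul,
    mul_comm]

theorem clGraph_srg : (clGraph G v).IsSRGWith 15 6 1 3 := by
  classical
  have hcn : ∀ c d : Cl G v, (univ.filter fun e => (clGraph G v).Adj c e ∧ (clGraph G v).Adj d e).card =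
      Fintype.card ((clGraph G v).commonNeighbors c d) := fun c d => by
    rw [← Set.toFinset_card]
    exact congrArg card (by ext; simp [SimpleGraph.mem_commonNeighbors])
  refine ⟨card_cl hG, fun c => ?_, fun c d h => ?_, fun c d hne h => ?_⟩
  · rw [← clGraph_degree hG c, ← SimpleGraph.card_neighborFinset_eq_degree]
    exact congrArg card (by ext; simp)
  · obtain ⟨u, hu⟩ := cl_nonempty hG c
    have h4 := four_common hG h.ne hu
    rw [hcn] at h4
    have hval : ∀ z ∈ d.1, ((far G v).filter fun x => G.Adj u x ∧ G.Adj z x).card =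
        if G.Adj u z then 0 else 2 := fun z hz => by
      have hne : u ≠ z := fun e => not_mem_other hG h.ne hu (e ▸ hz)
      rw [common_far hG (cls_of_mem hG c hu).1 (cls_of_mem hG d hz).1 hne]
      split_ifs with ha
      · rfl
      · have h2 := meet_le_two hG (cls_of_mem hG c hu).1 (cls_of_mem hG d hz).1 hne
        have h1 := h.2 u hu z hz
        have h0 : meet G v u z ≠ 0 := fun h0 => ha (by
          obtain ⟨hzf, hd⟩ := cls_of_mem hG d hz
          exact (adj_of_disjoint hG hzf (cls_of_mem hG c hu).1 (hd ▸ not_mem_other hG h.ne hu)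
            (self_mem_cls G v z) (by rw [meet_comm]; exact h0)).symm)
        omega
    rw [sum_congr rfl hval, sum_ite, sum_const_zero, zero_add, sum_const, smul_eq_mul] at h4
    have h5 := card_filter_add_card_filter_not (s := d.1) (fun z => G.Adj u z)
    rw [nbrs_in_class hG hu, if_pos h, cl_card hG] at h5
    show Fintype.card ((clGraph G v).commonNeighbors c d) = 1
    omega
  · obtain ⟨u, hu⟩ := cl_nonempty hG c
    have h4 := four_common hG hne hu
    rw [hcn] at h4
    have hval : ∀ z ∈ d.1, ((far G v).filter fun x => G.Adj u x ∧ G.Adj z x).card = 3 := fun z hz => by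
      have hne' : u ≠ z := fun e => not_mem_other hG hne hu (e ▸ hz)
      have h1 := all_one_of_not_adj hG hne h u hu z hz
      rw [common_far hG (cls_of_mem hG c hu).1 (cls_of_mem hG d hz).1 hne', if_neg fun ha => by
        rw [meet_eq_zero_of_adj hG ha] at h1; omega, h1]
    rw [sum_congr rfl hval, sum_const, cl_card hG, smul_eq_mul] at h4
    show Fintype.card ((clGraph G v).commonNeighbors c d) = 3
    omega

omit hG in
/-- Cocliques of size 21. -/
def IsMax (G : SimpleGraph V) (X : Finset V) : Prop :=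
  X.card = 21 ∧ ∀ a ∈ X, ∀ b ∈ X, ¬ G.Adj a b

/-- A vertex outside a coclique of size 21 has six neighbours in it. -/
theorem six_nbrs {X : Finset V} (hX : IsMax G X) {u : V} (hu : u ∉ X) :
    (X.filter fun x => G.Adj u x).card = 6 := by
  classical
  let d : V → ℤ := fun z => ((X.filter fun x => G.Adj z x).card : ℤ)
  have h1 : ∑ z ∈ univ \ X, d z = 336 := by
    have : ∑ z, d z = 336 := by
      simp only [d, card_filter, Nat.cast_sum]
      rw [sum_comm, sum_congr rfl (g := fun _ => (16 : ℤ)) fun x _ => ?_, sum_const, hX.1]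
      · norm_num
      · rw [← Nat.cast_sum, ← card_filter]
        simp only [G.adj_comm _ x]
        rw [deg hG]; norm_num
    rw [← this]
    refine sum_subset (sdiff_subset.trans (subset_univ _)) fun z _ hz => ?_
    have hzX : z ∈ X := by simpa using hz
    simp only [d, Nat.cast_eq_zero, card_eq_zero, filter_eq_empty_iff]
    exact fun x hx => hX.2 z hzX x hx
  have h2 : ∑ z ∈ univ \ X, d z ^ 2 = 2016 := by
    have : ∑ z, d z ^ 2 = ∑ a ∈ X, ∑ b ∈ X, ((common G a b).card : ℤ) := by
      simp only [d, card_filter, Nat.cast_sum, sq, sum_mul_sum]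
      rw [sum_comm]
      refine sum_congr rfl fun a _ => ?_
      rw [sum_comm]
      refine sum_congr rfl fun b _ => ?_
      rw [common, card_filter, Nat.cast_sum]
      refine sum_congr rfl fun z _ => ?_
      simp only [G.adj_comm z a, G.adj_comm z b]
      split_ifs <;> simp_all
    rw [sum_subset (sdiff_subset.trans (subset_univ (univ : Finset V))) fun z _ hz => ?_, this]
    · rw [sum_congr rfl (g := fun _ => (96 : ℤ)) fun a ha => ?_, sum_const, hX.1]
      · norm_num
      · rw [sum_congr rfl (g := fun b => (if a = b then (12 : ℤ) else 0) + 4) fun b hb => ?_,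
          sum_add_distrib, sum_ite_eq, if_pos ha, sum_const, hX.1]
        · norm_num
        · rw [common_count hG, adj, if_neg (hX.2 a ha b hb)]; ring
    · have hzX : z ∈ X := by simpa using hz
      have : d z = 0 := by
        simp only [d, Nat.cast_eq_zero, card_eq_zero, filter_eq_empty_iff]
        exact fun x hx => hX.2 z hzX x hx
      rw [this]; ring
  have h3 : ∑ z ∈ univ \ X, (d z - 6) ^ 2 = 0 := by
    rw [sum_congr rfl fun z _ => (show (d z - 6) ^ 2 = d z ^ 2 - 12 * d z + 36 by ring),
      sum_add_distrib, sum_sub_distrib, ← mul_sum, h1, h2, sum_const, card_univ_diff, hG.card, hX.1]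
    norm_num
  have h4 := (sum_eq_zero_iff_of_nonneg fun z _ => sq_nonneg _).1 h3 u (by simp [hu])
  rw [sq_eq_zero_iff, sub_eq_zero] at h4
  have h5 : ((X.filter fun x => G.Adj u x).card : ℤ) = 6 := h4
  exact_mod_cast h5

/-- A coclique of size 21 through `v` and `u` contains the class of `u`; its other traces meet that of
`u` in one point. -/
theorem max_structure {X : Finset V} (hX : IsMax G X) (hv : v ∈ X) {u : V} (hu : u ∈ X) (hne : u ≠ v) :
    u ∈ far G v ∧ cls G v u ⊆ X ∧ ∀ t ∈ X, t ≠ v → t ∉ cls G v u → meet G v u t = 1 := by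
  classical
  have hufar : u ∈ far G v := mem_far.2 ⟨hne, hX.2 v hv u hu⟩
  set O := (X.erase v).erase u with hO
  have hOc : O.card = 19 := by
    rw [hO, card_erase_of_mem (mem_erase.2 ⟨hne, hu⟩), card_erase_of_mem hv, hX.1]
  have hOfar : ∀ t ∈ O, t ∈ far G v ∧ t ∈ X ∧ t ≠ u := fun t ht => by
    simp only [hO, mem_erase] at ht
    exact ⟨mem_far.2 ⟨ht.2.1, hX.2 v hv t ht.2.2⟩, ht.2.2, ht.1⟩
  have hle : ∀ t ∈ O, meet G v u t ≤ 2 := fun t ht =>
    meet_le_two hG hufar (hOfar t ht).1 (Ne.symm (hOfar t ht).2.2)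
  have hsum : ∑ t ∈ O, meet G v u t = 16 := by
    rw [sum_meet_eq hG, sum_congr rfl (g := fun _ => 4) fun p hp => ?_, sum_const, card_trace hG hufar]
    · rfl
    · rw [mem_common] at hp
      have hpX : p ∉ X := fun h => hX.2 v hv p h hp.1
      have h6 := six_nbrs hG hX hpX
      have : O.filter (fun t => G.Adj t p) = ((X.filter fun x => G.Adj p x).erase v).erase u := by
        ext t
        simp only [hO, mem_filter, mem_erase, G.adj_comm t p]
        tauto
      rw [this, card_erase_of_mem (mem_erase.2 ⟨hne, mem_filter.2 ⟨hu, hp.2.symm⟩⟩),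
        card_erase_of_mem (mem_filter.2 ⟨hv, hp.1.symm⟩), h6]
  have hc := count_zero hG (v := v) (w := u) O hle
  rw [hsum, hOc] at hc
  have hsub : (O.filter fun t => meet G v u t = 0) ⊆ (cls G v u).erase u := fun t ht => by
    rw [mem_filter] at ht
    obtain ⟨h1, h2, h3⟩ := hOfar t ht.1
    exact mem_erase.2 ⟨h3, mem_insert_of_mem (mem_filter.2
      ⟨mem_erase.2 ⟨h3, h1⟩, hX.2 u hu t h2, ht.2⟩)⟩
  have hR : ((cls G v u).erase u).card = 3 := by
    rw [card_erase_of_mem (self_mem_cls G v u), card_cls hG hufar]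
  have hcard := card_le_card hsub
  have hch : ∑ t ∈ O, (meet G v u t).choose 2 = 0 := by omega
  have heq := eq_of_subset_of_card_le hsub (by omega)
  refine ⟨hufar, fun t ht => ?_, fun t ht htv htc => ?_⟩
  · by_cases e : t = u
    · exact e ▸ hu
    · have : t ∈ O.filter fun t => meet G v u t = 0 := heq ▸ mem_erase.2 ⟨e, ht⟩
      exact (hOfar t (mem_filter.1 this).1).2.1
  · have htu : t ≠ u := fun e => htc (e ▸ self_mem_cls G v u)
    have htO : t ∈ O := mem_erase.2 ⟨htu, mem_erase.2 ⟨htv, ht⟩⟩
    have h2 : (meet G v u t).choose 2 = 0 := (sum_eq_zero_iff.1 hch) t htO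
    have h0 : meet G v u t ≠ 0 := fun h0 => htc
      (mem_of_mem_erase (heq ▸ mem_filter.2 ⟨htO, h0⟩ : t ∈ (cls G v u).erase u))
    have h3 := hle t htO
    rcases h : meet G v u t with _ | _ | _ | k
    · exact absurd h h0
    · rfl
    · rw [h] at h2; simp at h2
    · omega

/-- A non-adjacent pair lies in exactly two cocliques of size 21. -/
theorem card_max_through {u : V} (hu : u ∈ far G v) [DecidablePred (IsMax G)] :
    (univ.filter fun X : Finset V => IsMax G X ∧ v ∈ X ∧ u ∈ X).card = 2 := by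
  classical
  obtain ⟨c, hc⟩ := exists_cl hG hu
  rw [← Small.card_cocliques (clGraph_srg hG) c]
  symm
  have hmem : ∀ (I : Finset (Cl G v)) t, t ∈ insert v (I.biUnion fun e => e.1) ↔
      t = v ∨ ∃ e ∈ I, t ∈ e.1 := fun I t => by simp
  refine card_bij (fun I _ => insert v (I.biUnion fun e => e.1)) ?_ ?_ ?_
  · intro I hI
    simp only [mem_filter, mem_powersetCard, subset_univ, true_and] at hI
    obtain ⟨h5, hcI, hI⟩ := hI
    refine mem_filter.2 ⟨mem_univ _, ⟨?_, ?_⟩, mem_insert_self _ _, (hmem I u).2 (Or.inr ⟨c, hcI, hc⟩)⟩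
    · rw [card_insert_of_notMem, card_biUnion (fun a _ b _ h => cl_disjoint hG (mem_univ a) (mem_univ b) h),
        sum_congr rfl fun e _ => cl_card hG e, sum_const, h5]
      · rfl
      · simp only [mem_biUnion, not_exists, not_and]
        exact fun e _ h => (mem_far.1 (cls_of_mem hG e h).1).1 rfl
    · intro a ha b hb hab
      rcases (hmem I a).1 ha with e1 | ⟨e, he, hae⟩ <;> rcases (hmem I b).1 hb with e2 | ⟨f, hf, hbf⟩
      · exact hab.ne (e1.trans e2.symm)
      · exact (mem_far.1 (cls_of_mem hG f hbf).1).2 (e1 ▸ hab)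
      · exact (mem_far.1 (cls_of_mem hG e hae).1).2 (e2 ▸ hab).symm
      · have hcard := nbrs_in_class hG (d := f) hae
        rw [if_neg (hI e he f hf), card_eq_zero, filter_eq_empty_iff] at hcard
        exact hcard hbf hab
  · intro I hI J hJ h
    ext e
    obtain ⟨t, ht⟩ := cl_nonempty hG e
    have key : ∀ K : Finset (Cl G v), e ∈ K ↔ t ∈ insert v (K.biUnion fun e => e.1) := fun K => by
      rw [hmem]
      refine ⟨fun he => Or.inr ⟨e, he, ht⟩, ?_⟩
      rintro (rfl | ⟨f, hf, htf⟩)
      · exact absurd rfl (mem_far.1 (cls_of_mem hG e ht).1).1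
      · exact cl_unique hG ht htf ▸ hf
    rw [key, key, show insert v (I.biUnion fun e => e.1) = insert v (J.biUnion fun e => e.1) from h]
  · intro X hX
    obtain ⟨-, hX, hvX, huX⟩ := mem_filter.1 hX
    set I := (univ : Finset (Cl G v)).filter fun e => e.1 ⊆ X with hI
    have hsub : ∀ t ∈ X, t ≠ v → ∃ e ∈ I, t ∈ e.1 := fun t ht htv => by
      obtain ⟨h1, h2, -⟩ := max_structure hG hX hvX ht htv
      obtain ⟨e, he⟩ := exists_cl hG h1
      exact ⟨e, mem_filter.2 ⟨mem_univ _, (cls_of_mem hG e he).2 ▸ h2⟩, he⟩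
    have hXI : insert v (I.biUnion fun e => e.1) = X := by
      ext t
      rw [hmem]
      constructor
      · rintro (rfl | ⟨e, he, hte⟩)
        · exact hvX
        · exact (mem_filter.1 he).2 hte
      · intro ht
        by_cases e : t = v
        · exact Or.inl e
        · exact Or.inr (hsub t ht e)
    have hI5 : I.card = 5 := by
      have h := congrArg card hXI
      rw [card_insert_of_notMem, card_biUnion (fun a _ b _ h => cl_disjoint hG (mem_univ a) (mem_univ b) h),
        sum_congr rfl fun e _ => cl_card hG e, sum_const, hX.1, smul_eq_mul] at h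
      · omega
      · simp only [mem_biUnion, not_exists, not_and]
        exact fun e _ h => (mem_far.1 (cls_of_mem hG e h).1).1 rfl
    have hind : ∀ a ∈ I, ∀ b ∈ I, ¬ (clGraph G v).Adj a b := by
      intro a ha b hb hab
      obtain ⟨x, hx⟩ := cl_nonempty hG a
      obtain ⟨y, hy⟩ := cl_nonempty hG b
      have hxX := (mem_filter.1 ha).2 hx
      have hyX := (mem_filter.1 hb).2 hy
      obtain ⟨-, -, h⟩ := max_structure hG hX hvX hxX (mem_far.1 (cls_of_mem hG a hx).1).1
      refine hab.2 x hx y hy (h y hyX (mem_far.1 (cls_of_mem hG b hy).1).1 ?_)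
      rw [← (cls_of_mem hG a hx).2]
      exact not_mem_other hG hab.ne.symm hy
    have hcI : c ∈ I := by
      obtain ⟨-, h2, -⟩ := max_structure hG hX hvX huX (mem_far.1 hu).1
      exact mem_filter.2 ⟨mem_univ _, (cls_of_mem hG c hc).2 ▸ h2⟩
    exact ⟨I, mem_filter.2 ⟨mem_powersetCard.2 ⟨subset_univ _, hI5⟩, hcI, hind⟩, hXI⟩

end CfsgLib.SmallGroups.SRG77
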