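import Cfsg.Agent.Lib.SmallGroups.SRG77.Small

/-!
# A graph with parameters `(77, 16, 0, 4)`: each non-adjacent pair lies in two cocliques of size 21

The second eigenvalue gives the inequality `0 ≤ 22 |x|² - 11 xAx + 2 (Σ x)²`; test vectors on few
sets show that the traces of the non-neighbours of a vertex form fifteen parallel classes.
-/

set_option autoImplicit false

namespace CfsgLib.SmallGroups.SRG77

open Finset

variable {V : Type*} [Fintype V] [DecidableEq V] {G : SimpleGraph V} [DecidableRel G.Adj]

/-- Adjacency as an integer. -/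
def adj (G : SimpleGraph V) [DecidableRel G.Adj] (a b : V) : ℤ := if G.Adj a b then 1 else 0

/-- Common neighbours. -/
def common (G : SimpleGraph V) [DecidableRel G.Adj] (a b : V) : Finset V :=
  univ.filter fun z => G.Adj a z ∧ G.Adj b z

theorem mem_common {a b z : V} : z ∈ common G a b ↔ G.Adj a z ∧ G.Adj b z := by simp [common]

section Graph

variable (hG : G.IsSRGWith 77 16 0 4)
include hG

theorem deg (a : V) : (univ.filter fun z => G.Adj a z).card = 16 := by
  rw [← hG.regular a, ← SimpleGraph.card_neighborFinset_eq_degree]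
  exact congrArg card (by ext; simp)

theorem no_triangle {a b c : V} (h1 : G.Adj a b) (h2 : G.Adj a c) : ¬ G.Adj b c := fun h3 => by
  have h := hG.of_adj a b h1
  rw [Fintype.card_eq_zero_iff] at h
  exact h.false ⟨c, by rw [SimpleGraph.mem_commonNeighbors]; exact ⟨h2, h3⟩⟩

theorem card_common {a b : V} (hne : a ≠ b) (hab : ¬ G.Adj a b) : (common G a b).card = 4 := by
  rw [← hG.of_not_adj hne hab, ← Set.toFinset_card]
  exact congrArg card (by ext; simp [mem_common, SimpleGraph.mem_commonNeighbors])

theorem common_count (a b : V) : ((common G a b).card : ℤ) =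
    (if a = b then 12 else 0) - 4 * adj G a b + 4 := by
  unfold adj
  by_cases e : a = b
  · subst e
    have : common G a a = univ.filter fun z => G.Adj a z := by ext; simp [mem_common]
    rw [this, deg hG]
    simp
  by_cases h : G.Adj a b
  · have : common G a b = ∅ := eq_empty_of_forall_notMem fun z hz =>
      no_triangle hG h (mem_common.1 hz).1 (mem_common.1 hz).2
    simp [this, e, h]
  · simp [card_common hG e h, e, h]

/-- The eigenvalue inequality. -/
theorem gram (x : V → ℤ) : 11 * ∑ a, ∑ b, adj G a b * x a * x b ≤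
    22 * ∑ a, x a ^ 2 + 2 * (∑ a, x a) ^ 2 := by
  set S := ∑ a, x a with hS
  set Q := ∑ a, x a ^ 2 with hQ
  set A := ∑ a, ∑ b, adj G a b * x a * x b with hA
  let y : V → ℤ := fun u => ∑ b, adj G u b * x b
  have hy : ∑ u, y u = 16 * S := by
    show ∑ u, ∑ b, adj G u b * x b = _
    rw [sum_comm, hS, mul_sum]
    refine sum_congr rfl fun b _ => ?_
    rw [← sum_mul]
    congr 1
    unfold adj
    rw [sum_boole]
    have : (univ.filter fun u => G.Adj u b) = univ.filter fun z => G.Adj b z := by
      ext; simp [G.adj_comm]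
    rw [this, deg hG]
    norm_num
  have hyx : ∑ u, y u * x u = A := by
    show ∑ u, (∑ b, adj G u b * x b) * x u = _
    refine sum_congr rfl fun u _ => ?_
    rw [sum_mul]
    exact sum_congr rfl fun b _ => by ring
  have hy2 : ∑ u, y u ^ 2 = 12 * Q - 4 * A + 4 * S ^ 2 := by
    have e1 : ∀ u, y u ^ 2 = ∑ a, ∑ b, adj G u a * adj G u b * (x a * x b) := fun u => by
      show (∑ b, adj G u b * x b) ^ 2 = _
      rw [sq, sum_mul_sum]
      exact sum_congr rfl fun a _ => sum_congr rfl fun b _ => by ring
    simp only [e1]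
    rw [sum_comm]
    have e2 : ∀ a b, ∑ u, adj G u a * adj G u b = ((common G a b).card : ℤ) := fun a b => by
      rw [common, ← sum_boole]
      refine sum_congr rfl fun u _ => ?_
      simp only [adj, G.adj_comm u a, G.adj_comm u b]
      split_ifs <;> simp_all
    have e3 : ∀ a, (∑ u, ∑ b, adj G u a * adj G u b * (x a * x b)) =
        12 * x a ^ 2 - 4 * ∑ b, adj G a b * x a * x b + 4 * (x a * S) := fun a => by
      rw [sum_comm, hS, mul_sum univ x (x a), mul_sum, mul_sum]
      have : 12 * x a ^ 2 = ∑ b, if a = b then 12 * (x a * x b) else 0 := by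
        rw [sum_ite_eq]; simp [sq]
      rw [this, ← sum_sub_distrib, ← sum_add_distrib]
      refine sum_congr rfl fun b _ => ?_
      rw [← sum_mul, e2, common_count hG]
      split_ifs <;> ring
    rw [sum_congr rfl fun a _ => e3 a, sum_add_distrib, sum_sub_distrib, ← mul_sum, ← mul_sum,
      ← mul_sum, ← sum_mul, ← hQ, ← hS, ← hA]
    ring
  have h0 : 0 ≤ ∑ u, (11 * (y u - 2 * x u) - 2 * S) ^ 2 := sum_nonneg fun _ _ => sq_nonneg _
  have hexp : ∀ u, (11 * (y u - 2 * x u) - 2 * S) ^ 2 =
      121 * y u ^ 2 - 484 * (y u * x u) + 484 * x u ^ 2 - 44 * S * y u + 88 * S * x u + 4 * S ^ 2 :=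
    fun u => by ring
  rw [sum_congr rfl fun u _ => hexp u] at h0
  simp only [sum_add_distrib, sum_sub_distrib, ← mul_sum, hy, hy2, hyx, ← hQ, ← hS, sum_const,
    card_univ, hG.card, nsmul_eq_mul] at h0
  push_cast at h0
  nlinarith

end Graph

/-- The bilinear form on sets of vertices. -/
def form (G : SimpleGraph V) [DecidableRel G.Adj] (S T : Finset V) : ℤ :=
  22 * ((S ∩ T).card : ℤ) + 2 * S.card * T.card - 11 * ∑ a ∈ S, ∑ b ∈ T, adj G a b

theorem form_nonneg (hG : G.IsSRGWith 77 16 0 4) {n : ℕ} (c : Fin n → ℤ) (S : Fin n → Finset V) :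
    0 ≤ ∑ i, ∑ j, c i * c j * form G (S i) (S j) := by
  classical
  let x : V → ℤ := fun a => ∑ i, if a ∈ S i then c i else 0
  have h := gram hG x
  have h1 : ∑ a, x a ^ 2 = ∑ i, ∑ j, c i * c j * ((S i ∩ S j).card : ℤ) := by
    simp only [x, sq, sum_mul_sum]
    rw [sum_comm]
    refine sum_congr rfl fun i _ => ?_
    rw [sum_comm]
    refine sum_congr rfl fun j _ => ?_
    rw [mul_comm (c i * c j), ← smul_eq_mul, natCast_zsmul, ← sum_const]
    rw [← sum_subset (subset_univ (S i ∩ S j))]
    · refine sum_congr rfl fun a ha => ?_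
      rw [mem_inter] at ha
      simp [ha.1, ha.2]
    · intro a _ ha
      rw [mem_inter] at ha
      split_ifs <;> simp_all
  have hx : ∀ f : V → ℤ, ∑ a, f a * x a = ∑ i, c i * ∑ a ∈ S i, f a := fun f => by
    simp only [x, mul_sum]
    rw [sum_comm]
    refine sum_congr rfl fun i _ => ?_
    rw [← sum_subset (subset_univ (S i)) (fun a _ ha => by simp [ha])]
    exact sum_congr rfl fun a ha => by simp [ha, mul_comm]
  have h2 : (∑ a, x a) ^ 2 = ∑ i, ∑ j, c i * c j * ((S i).card * (S j).card : ℤ) := by
    have := hx fun _ => 1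
    simp only [one_mul, sum_const, nsmul_eq_mul, mul_one] at this
    rw [this, sq, sum_mul_sum]
    exact sum_congr rfl fun i _ => sum_congr rfl fun j _ => by ring
  have h3 : ∑ a, ∑ b, adj G a b * x a * x b =
      ∑ i, ∑ j, c i * c j * ∑ a ∈ S i, ∑ b ∈ S j, adj G a b := by
    calc ∑ a, ∑ b, adj G a b * x a * x b = ∑ a, (∑ b, adj G a b * x b) * x a := by
          refine sum_congr rfl fun a _ => ?_
          rw [sum_mul]
          exact sum_congr rfl fun b _ => by ring
      _ = ∑ i, c i * ∑ a ∈ S i, ∑ b, adj G a b * x b := hx _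
      _ = _ := by
        refine sum_congr rfl fun i _ => ?_
        simp only [hx, mul_sum]
        rw [sum_comm]
        exact sum_congr rfl fun j _ => sum_congr rfl fun a _ => sum_congr rfl fun b _ => by ring
  rw [h1, h2, h3] at h
  have h4 : ∑ i, ∑ j, c i * c j * form G (S i) (S j) =
      22 * ∑ i, ∑ j, c i * c j * ((S i ∩ S j).card : ℤ)
      + 2 * (∑ i, ∑ j, c i * c j * ((S i).card * (S j).card : ℤ))
      - 11 * ∑ i, ∑ j, c i * c j * ∑ a ∈ S i, ∑ b ∈ S j, adj G a b := by
    rw [mul_sum univ _ (22 : ℤ), mul_sum univ _ (2 : ℤ), mul_sum univ _ (11 : ℤ),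
      ← sum_add_distrib, ← sum_sub_distrib]
    refine sum_congr rfl fun i _ => ?_
    rw [mul_sum univ _ (22 : ℤ), mul_sum univ _ (2 : ℤ), mul_sum univ _ (11 : ℤ),
      ← sum_add_distrib, ← sum_sub_distrib]
    exact sum_congr rfl fun j _ => by unfold form; ring
  rw [h4]
  linarith

theorem form_comm (S T : Finset V) : form G S T = form G T S := by
  unfold form
  rw [inter_comm, sum_comm (s := S)]
  have : ∀ a b, adj G a b = adj G b a := fun a b => by simp [adj, G.adj_comm]
  simp only [this]
  ring

theorem form_single (a b : V) : form G {a} {b} = (if a = b then 24 else 2) - 11 * adj G a b := by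
  unfold form
  by_cases e : a = b
  · subst e; simp
  · simp [e]

theorem form_single_set (a : V) (T : Finset V) (ha : a ∉ T) :
    form G {a} T = 2 * (T.card : ℤ) - 11 * ((T.filter fun b => G.Adj a b).card : ℤ) := by
  unfold form adj
  rw [singleton_inter_of_notMem ha, sum_singleton, sum_boole]
  simp

/-- The trace of `w` on the neighbours of `v`. -/
local notation "B[" G ", " v ", " w "]" => common G v w

/-- The vertices neither equal nor joined to `v`. -/
def far (G : SimpleGraph V) [DecidableRel G.Adj] (v : V) : Finset V :=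
  univ.filter fun u => u ≠ v ∧ ¬ G.Adj v u

theorem mem_far {v u : V} : u ∈ far G v ↔ u ≠ v ∧ ¬ G.Adj v u := by simp [far]

/-- Number of points of the traces of `u` and `w` in common. -/
def meet (G : SimpleGraph V) [DecidableRel G.Adj] (v u w : V) : ℕ :=
  (common G v u ∩ common G v w).card

theorem meet_comm (v u w : V) : meet G v u w = meet G v w u := by
  unfold meet; rw [inter_comm]

section Traces

variable (hG : G.IsSRGWith 77 16 0 4) {v : V}
include hG

theorem card_far : (far G v).card = 60 := by
  have h : far G v = univ \ insert v (univ.filter fun z => G.Adj v z) := by ext; simp [far]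
  rw [h, card_univ_diff, hG.card, card_insert_of_notMem (by simp), deg hG]

theorem card_trace {w : V} (hw : w ∈ far G v) : (common G v w).card = 4 :=
  card_common hG (Ne.symm (mem_far.1 hw).1) (mem_far.1 hw).2

theorem meet_eq_zero_of_adj {u w : V} (h : G.Adj u w) : meet G v u w = 0 := by
  rw [meet, card_eq_zero]
  refine eq_empty_of_forall_notMem fun p hp => ?_
  rw [mem_inter, mem_common, mem_common] at hp
  exact no_triangle hG h hp.1.2 hp.2.2

theorem meet_self {w : V} (hw : w ∈ far G v) : meet G v w w = 4 := by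
  rw [meet, inter_self, card_trace hG hw]

/-- The values of the form on vertices and traces. -/
theorem form_v {w : V} (hw : w ∈ far G v) : form G {v} (common G v w) = -36 := by
  rw [form_single_set _ _ (fun h => G.irrefl (mem_common.1 h).1), card_trace hG hw,
    filter_true_of_mem fun p hp => (mem_common.1 hp).1, card_trace hG hw]
  norm_num

theorem form_point_trace {u w : V} (hu : u ∈ far G v) (hw : w ∈ far G v) :
    form G {u} (common G v w) = 8 - 11 * (meet G v u w : ℤ) := by
  rw [form_single_set _ _ (fun h => (mem_far.1 hu).2 (mem_common.1 h).1), card_trace hG hw]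
  have h : (common G v w).filter (fun b => G.Adj u b) = common G v u ∩ common G v w := by
    ext b
    simp only [mem_filter, mem_inter, mem_common]
    tauto
  rw [h, meet]
  norm_num

theorem form_trace {u w : V} (hu : u ∈ far G v) (hw : w ∈ far G v) :
    form G (common G v u) (common G v w) = 22 * (meet G v u w : ℤ) + 32 := by
  unfold form adj
  rw [card_trace hG hu, card_trace hG hw]
  have h : (∑ a ∈ common G v u, ∑ b ∈ common G v w, if G.Adj a b then (1 : ℤ) else 0) = 0 :=
    sum_eq_zero fun a ha => sum_eq_zero fun b hb =>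
      if_neg (no_triangle hG (mem_common.1 ha).1 (mem_common.1 hb).1)
  rw [h, meet]
  norm_num

theorem form_vv : form G {v} {v} = 24 := by simp [form_single, adj]

theorem form_far {u w : V} (hne : u ≠ w) :
    form G {u} {w} = 2 - 11 * adj G u w := by rw [form_single, if_neg hne]

theorem form_v_far {w : V} (hw : w ∈ far G v) : form G {v} {w} = 2 := by
  rw [form_single, if_neg (Ne.symm (mem_far.1 hw).1), adj, if_neg (mem_far.1 hw).2]; simp

theorem meet_le_two {u w : V} (hu : u ∈ far G v) (hw : w ∈ far G v) (hne : u ≠ w) :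
    meet G v u w ≤ 2 := by
  by_contra h
  have hna : ¬ G.Adj u w := fun ha => by rw [meet_eq_zero_of_adj hG ha] at h; omega
  have huu : form G {u} {u} = 24 := by simp [form_single, adj]
  have hww : form G {w} {w} = 24 := by simp [form_single, adj]
  have huw : form G {u} {w} = 2 := by rw [form_far hG hne, adj, if_neg hna]; simp
  have := form_nonneg hG ![2, 2, 2, 1, 1] ![{v}, {u}, {w}, common G v u, common G v w]
  simp only [Fin.sum_univ_succ, Fin.sum_univ_zero, Matrix.cons_val_zero, Matrix.cons_val_succ,
    form_vv hG, form_v_far hG hu, form_v_far hG hw, form_v hG hu, form_v hG hw, huu, hww, huw,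
    form_comm {u} {v}, form_comm {w} {v}, form_comm {w} {u}, form_comm (common G v u) {v},
    form_comm (common G v w) {v}, form_comm (common G v u) {u}, form_comm (common G v u) {w},
    form_comm (common G v w) {u}, form_comm (common G v w) {w},
    form_point_trace hG hu hu, form_point_trace hG hu hw, form_point_trace hG hw hu,
    form_point_trace hG hw hw, form_trace hG hu hu, form_trace hG hu hw, form_trace hG hw hu,
    form_trace hG hw hw, meet_self hG hu, meet_self hG hw, meet_comm v w u] at this
  push_cast at this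
  omega

/-- Two traces disjoint from a third, all three vertices pairwise unjoined, are disjoint. -/
theorem rel_trans {w a b : V} (hw : w ∈ far G v) (ha : a ∈ far G v) (hb : b ∈ far G v) (hab : a ≠ b)
    (hwa : ¬ G.Adj w a) (hwb : ¬ G.Adj w b) (ka : meet G v w a = 0) (kb : meet G v w b = 0) :
    ¬ G.Adj a b ∧ meet G v a b = 0 := by
  have hwa' : w ≠ a := fun e => by rw [e, meet_self hG ha] at ka; omega
  have hwb' : w ≠ b := fun e => by rw [e, meet_self hG hb] at kb; omega
  have f : ∀ t : V, form G {t} {t} = 24 := fun t => by simp [form_single, adj]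
  have f1 : form G {w} {a} = 2 := by rw [form_far hG hwa', adj, if_neg hwa]; simp
  have f2 : form G {w} {b} = 2 := by rw [form_far hG hwb', adj, if_neg hwb]; simp
  have := form_nonneg hG ![-4, 2, 2, -2, 1, 1]
    ![{w}, {a}, {b}, common G v w, common G v a, common G v b]
  simp only [Fin.sum_univ_succ, Fin.sum_univ_zero, Matrix.cons_val_zero, Matrix.cons_val_succ,
    f, f1, f2, form_far hG hab, form_comm {a} {w}, form_comm {b} {w}, form_comm {b} {a},
    form_comm (common G v w) {w}, form_comm (common G v w) {a}, form_comm (common G v w) {b},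
    form_comm (common G v a) {w}, form_comm (common G v a) {a}, form_comm (common G v a) {b},
    form_comm (common G v b) {w}, form_comm (common G v b) {a}, form_comm (common G v b) {b},
    form_point_trace hG hw hw, form_point_trace hG hw ha, form_point_trace hG hw hb,
    form_point_trace hG ha hw, form_point_trace hG ha ha, form_point_trace hG ha hb,
    form_point_trace hG hb hw, form_point_trace hG hb ha, form_point_trace hG hb hb,
    form_trace hG hw hw, form_trace hG hw ha, form_trace hG hw hb,
    form_trace hG ha hw, form_trace hG ha ha, form_trace hG ha hb,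
    form_trace hG hb hw, form_trace hG hb ha, form_trace hG hb hb,
    meet_self hG hw, meet_self hG ha, meet_self hG hb,
    meet_comm v a w, meet_comm v b w, meet_comm v b a, ka, kb] at this
  push_cast at this
  unfold adj at this
  refine ⟨fun h => ?_, ?_⟩
  · rw [if_pos h] at this; omega
  · split_ifs at this <;> omega

/-- No trace meets three parallel ones in two, one and no points. -/
theorem no_mixed {w0 w1 w3 u : V} (h0 : w0 ∈ far G v) (h1 : w1 ∈ far G v) (h3 : w3 ∈ far G v)
    (hu : u ∈ far G v) (a01 : ¬ G.Adj w0 w1) (a03 : ¬ G.Adj w0 w3) (a13 : ¬ G.Adj w1 w3)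
    (k01 : meet G v w0 w1 = 0) (k03 : meet G v w0 w3 = 0) (k13 : meet G v w1 w3 = 0)
    (k0 : meet G v w0 u = 2) (k1 : meet G v w1 u = 1) (k3 : meet G v w3 u = 0)
    (a3 : G.Adj w3 u) : False := by
  have n01 : w0 ≠ w1 := fun e => by rw [e, meet_self hG h1] at k01; omega
  have n03 : w0 ≠ w3 := fun e => by rw [e, meet_self hG h3] at k03; omega
  have n13 : w1 ≠ w3 := fun e => by rw [e, meet_self hG h3] at k13; omega
  have n0 : w0 ≠ u := fun e => by rw [e, meet_self hG hu] at k0; omega
  have n1 : w1 ≠ u := fun e => by rw [e, meet_self hG hu] at k1; omega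
  have na0 : ¬ G.Adj w0 u := fun h => by rw [meet_eq_zero_of_adj hG h] at k0; omega
  have na1 : ¬ G.Adj w1 u := fun h => by rw [meet_eq_zero_of_adj hG h] at k1; omega
  have f : ∀ t : V, form G {t} {t} = 24 := fun t => by simp [form_single, adj]
  have g : ∀ s t : V, s ≠ t → ¬ G.Adj s t → form G {s} {t} = 2 := fun s t hne hna => by
    rw [form_far hG hne, adj, if_neg hna]; simp
  have g3 : form G {w3} {u} = -9 := by rw [form_far hG a3.ne, adj, if_pos a3]; norm_num
  have := form_nonneg hG ![-1, -2, 4, -2, -2, -1, 2, -1, -1]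
    ![{v}, {w0}, {w1}, {w3}, {u}, common G v w0, common G v w1, common G v w3, common G v u]
  simp only [Fin.sum_univ_succ, Fin.sum_univ_zero, Matrix.cons_val_zero, Matrix.cons_val_succ,
    f, g _ _ n01 a01, g _ _ n03 a03, g _ _ n13 a13, g _ _ n0 na0, g _ _ n1 na1, g3,
    form_v_far hG h0, form_v_far hG h1, form_v_far hG h3, form_v_far hG hu,
    form_v hG h0, form_v hG h1, form_v hG h3, form_v hG hu,
    form_comm {w0} {v}, form_comm {w1} {v}, form_comm {w3} {v}, form_comm {u} {v},
    form_comm {w1} {w0}, form_comm {w3} {w0}, form_comm {u} {w0}, form_comm {w3} {w1},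
    form_comm {u} {w1}, form_comm {u} {w3},
    form_comm (common G v w0) {v}, form_comm (common G v w1) {v}, form_comm (common G v w3) {v},
    form_comm (common G v u) {v},
    form_comm (common G v w0) {w0}, form_comm (common G v w0) {w1}, form_comm (common G v w0) {w3},
    form_comm (common G v w0) {u},
    form_comm (common G v w1) {w0}, form_comm (common G v w1) {w1}, form_comm (common G v w1) {w3},
    form_comm (common G v w1) {u},
    form_comm (common G v w3) {w0}, form_comm (common G v w3) {w1}, form_comm (common G v w3) {w3},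
    form_comm (common G v w3) {u},
    form_comm (common G v u) {w0}, form_comm (common G v u) {w1}, form_comm (common G v u) {w3},
    form_comm (common G v u) {u},
    form_point_trace hG h0 h0, form_point_trace hG h0 h1, form_point_trace hG h0 h3,
    form_point_trace hG h0 hu, form_point_trace hG h1 h0, form_point_trace hG h1 h1,
    form_point_trace hG h1 h3, form_point_trace hG h1 hu, form_point_trace hG h3 h0,
    form_point_trace hG h3 h1, form_point_trace hG h3 h3, form_point_trace hG h3 hu,
    form_point_trace hG hu h0, form_point_trace hG hu h1, form_point_trace hG hu h3,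
    form_point_trace hG hu hu,
    form_trace hG h0 h0, form_trace hG h0 h1, form_trace hG h0 h3, form_trace hG h0 hu,
    form_trace hG h1 h0, form_trace hG h1 h1, form_trace hG h1 h3, form_trace hG h1 hu,
    form_trace hG h3 h0, form_trace hG h3 h1, form_trace hG h3 h3, form_trace hG h3 hu,
    form_trace hG hu h0, form_trace hG hu h1, form_trace hG hu h3, form_trace hG hu hu,
    meet_self hG h0, meet_self hG h1, meet_self hG h3, meet_self hG hu,
    meet_comm v w1 w0, meet_comm v w3 w0, meet_comm v w3 w1, meet_comm v u w0, meet_comm v u w1,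
    meet_comm v u w3, k01, k03, k13, k0, k1, k3] at this
  norm_num at this

theorem card_far_erase {w : V} (hw : w ∈ far G v) : ((far G v).erase w).card = 59 := by
  rw [card_erase_of_mem hw, card_far hG]

/-- For any set `O` of vertices, the meets are counted by the points of the trace. -/
theorem sum_meet_eq (w : V) (O : Finset V) :
    ∑ u ∈ O, meet G v w u = ∑ p ∈ common G v w, (O.filter fun u => G.Adj u p).card := by
  simp only [card_filter]
  rw [sum_comm]
  refine sum_congr rfl fun u _ => ?_
  rw [← card_filter]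
  unfold meet
  congr 1
  ext p
  simp only [mem_inter, mem_common, mem_filter]
  tauto

theorem nbrs_point {w p : V} (hw : w ∈ far G v) (hp : p ∈ common G v w) :
    (((far G v).erase w).filter fun u => G.Adj u p).card = 14 := by
  rw [mem_common] at hp
  have h : (((far G v).erase w).filter fun u => G.Adj u p) =
      ((univ.filter fun z => G.Adj p z).erase v).erase w := by
    ext u
    simp only [mem_filter, mem_erase, mem_far, mem_univ, true_and]
    constructor
    · rintro ⟨⟨h1, h2, -⟩, h4⟩
      exact ⟨h1, h2, h4.symm⟩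
    · rintro ⟨h1, h2, h3⟩
      exact ⟨⟨h1, h2, fun h => no_triangle hG hp.1.symm h3 h⟩, h3.symm⟩
  rw [h, card_erase_of_mem (mem_erase.2 ⟨(mem_far.1 hw).1, by simp [hp.2.symm]⟩),
    card_erase_of_mem (by simp [hp.1.symm]), deg hG]

theorem sum_meet {w : V} (hw : w ∈ far G v) : ∑ u ∈ (far G v).erase w, meet G v w u = 56 := by
  rw [sum_meet_eq hG, sum_congr rfl fun p hp => nbrs_point hG hw hp, sum_const, card_trace hG hw]
  rfl

theorem sum_choose {w : V} (hw : w ∈ far G v) :
    ∑ u ∈ (far G v).erase w, (meet G v w u).choose 2 = 12 := by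
  have h1 : ∀ u, (meet G v w u).choose 2 =
      ((common G v w).powersetCard 2 |>.filter fun P => P ⊆ common G v u).card := fun u => by
    rw [meet, ← card_powersetCard]
    congr 1
    ext P
    simp only [mem_powersetCard, mem_filter, subset_inter_iff]
    tauto
  simp only [h1, card_filter]
  rw [sum_comm]
  have h2 : ∀ P ∈ (common G v w).powersetCard 2,
      (((far G v).erase w).filter fun u => P ⊆ common G v u).card = 2 := by
    intro P hP
    rw [mem_powersetCard] at hP
    obtain ⟨p, q, hpq, rfl⟩ := card_eq_two.1 hP.2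
    have hp := mem_common.1 (hP.1 (mem_insert_self _ _))
    have hq := mem_common.1 (hP.1 (mem_insert_of_mem (mem_singleton_self _)))
    have h : (((far G v).erase w).filter fun u => ({p, q} : Finset V) ⊆ common G v u) =
        ((common G p q).erase v).erase w := by
      ext u
      simp only [mem_filter, mem_erase, mem_far, insert_subset_iff, singleton_subset_iff, mem_common]
      constructor
      · rintro ⟨⟨h1, h2, -⟩, ⟨-, h4⟩, -, h5⟩
        exact ⟨h1, h2, h4.symm, h5.symm⟩
      · rintro ⟨h1, h2, h4, h5⟩
        exact ⟨⟨h1, h2, fun h => no_triangle hG hp.1.symm h4 h⟩, ⟨hp.1, h4.symm⟩, hq.1, h5.symm⟩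
    rw [h, card_erase_of_mem (mem_erase.2 ⟨(mem_far.1 hw).1, mem_common.2 ⟨hp.2.symm, hq.2.symm⟩⟩),
      card_erase_of_mem (mem_common.2 ⟨hp.1.symm, hq.1.symm⟩),
      card_common hG hpq (no_triangle hG hp.1 hq.1)]
  rw [sum_congr rfl (g := fun _ => 2) fun P hP => ?_, sum_const, card_powersetCard, card_trace hG hw]
  · rfl
  · rw [← card_filter]
    exact h2 P hP

theorem count_zero {w : V} (O : Finset V) (hO : ∀ u ∈ O, meet G v w u ≤ 2) :
    (O.filter fun u => meet G v w u = 0).card + ∑ u ∈ O, meet G v w u =
      O.card + ∑ u ∈ O, (meet G v w u).choose 2 := by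
  rw [card_filter, card_eq_sum_ones, ← sum_add_distrib, ← sum_add_distrib]
  refine sum_congr rfl fun u hu => ?_
  have := hO u hu
  rcases h : meet G v w u with _ | _ | _ | k
  · rfl
  · rfl
  · rfl
  · omega

end Traces

/-- The parallel class of `w`. -/
def cls (G : SimpleGraph V) [DecidableRel G.Adj] (v w : V) : Finset V :=
  insert w (((far G v).erase w).filter fun u => ¬ G.Adj w u ∧ meet G v w u = 0)

theorem mem_cls {v w u : V} (hu : u ∈ cls G v w) (hne : u ≠ w) :
    u ∈ far G v ∧ ¬ G.Adj w u ∧ meet G v w u = 0 := by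
  simp only [cls, mem_insert, mem_filter, mem_erase] at hu
  rcases hu with h | h
  · exact absurd h hne
  · exact ⟨h.1.2, h.2⟩

theorem cls_far {v w : V} (hw : w ∈ far G v) : cls G v w ⊆ far G v := fun u hu => by
  by_cases h : u = w
  · exact h ▸ hw
  · exact (mem_cls hu h).1

theorem self_mem_cls (G : SimpleGraph V) [DecidableRel G.Adj] (v w : V) : w ∈ cls G v w := mem_insert_self _ _

section Classes

variable (hG : G.IsSRGWith 77 16 0 4) {v : V}
include hG

theorem nbrs_far {w : V} (hw : w ∈ far G v) :
    ((far G v).filter fun u => G.Adj w u).card = 12 := by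
  have h := card_filter_add_card_filter_not (s := univ.filter fun z => G.Adj w z) (fun z => G.Adj v z)
  rw [deg hG, filter_filter, filter_filter,
    show (univ.filter fun z => G.Adj w z ∧ G.Adj v z).card = 4 from
      card_common hG (mem_far.1 hw).1 (fun h => (mem_far.1 hw).2 h.symm),
    show (univ.filter fun z => G.Adj w z ∧ ¬ G.Adj v z) = (far G v).filter (fun u => G.Adj w u) from ?_] at h
  · omega
  · ext z
    simp only [mem_filter, mem_univ, true_and, mem_far]
    exact ⟨fun h => ⟨⟨fun e => (mem_far.1 hw).2 (e ▸ h.1).symm, h.2⟩, h.1⟩, fun h => ⟨h.2, h.1.2⟩⟩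

theorem card_cls {w : V} (hw : w ∈ far G v) : (cls G v w).card = 4 := by
  set O := (far G v).erase w with hO
  have h0 := count_zero hG (v := v) (w := w) O fun u hu =>
    meet_le_two hG hw (mem_erase.1 hu).2 (Ne.symm (mem_erase.1 hu).1)
  rw [sum_meet hG hw, sum_choose hG hw, card_far_erase hG hw] at h0
  have h1 := card_filter_add_card_filter_not (s := O.filter fun u => meet G v w u = 0)
    (fun u => G.Adj w u)
  rw [filter_filter, filter_filter] at h1
  have h2 : O.filter (fun u => meet G v w u = 0 ∧ G.Adj w u) = (far G v).filter (fun u => G.Adj w u) := by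
    ext u
    simp only [hO, mem_filter, mem_erase]
    exact ⟨fun h => ⟨h.1.2, h.2.2⟩,
      fun h => ⟨⟨Ne.symm h.2.ne, h.1⟩, meet_eq_zero_of_adj hG h.2, h.2⟩⟩
  rw [h2, nbrs_far hG hw] at h1
  rw [cls, card_insert_of_notMem (by simp)]
  have h3 : (O.filter fun u => ¬ G.Adj w u ∧ meet G v w u = 0) =
      O.filter fun u => meet G v w u = 0 ∧ ¬ G.Adj w u := by ext; simp [and_comm]
  rw [← hO, h3]
  omega

theorem cls_pairwise {w a b : V} (hw : w ∈ far G v) (ha : a ∈ cls G v w) (hb : b ∈ cls G v w)
    (hab : a ≠ b) : ¬ G.Adj a b ∧ meet G v a b = 0 := by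
  by_cases h1 : a = w
  · subst h1; exact (mem_cls hb (Ne.symm hab)).2
  by_cases h2 : b = w
  · subst h2
    obtain ⟨-, x, y⟩ := mem_cls ha hab
    exact ⟨fun h => x h.symm, by rw [meet_comm]; exact y⟩
  obtain ⟨ha', x, y⟩ := mem_cls ha h1
  obtain ⟨hb', x', y'⟩ := mem_cls hb h2
  exact rel_trans hG hw ha' hb' hab x x' y y'

theorem cls_eq {w u : V} (hw : w ∈ far G v) (hu : u ∈ cls G v w) : cls G v u = cls G v w := by
  refine (eq_of_subset_of_card_le (fun t ht => ?_) ?_).symm
  · by_cases h : t = u
    · subst h; exact self_mem_cls G v t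
    · obtain ⟨x, y⟩ := cls_pairwise hG hw hu ht (Ne.symm h)
      exact mem_insert_of_mem (mem_filter.2 ⟨mem_erase.2 ⟨h, cls_far hw ht⟩, x, y⟩)
  · rw [card_cls hG hw, card_cls hG (cls_far hw hu)]

theorem sum_meet_cls {w u : V} (hw : w ∈ far G v) (hu : u ∈ far G v) :
    ∑ t ∈ cls G v w, meet G v t u = 4 := by
  have hdisj : Set.PairwiseDisjoint (cls G v w : Set V) (fun t => common G v t) := fun a ha b hb hab => by
    rw [Function.onFun, disjoint_iff_inter_eq_empty, ← card_eq_zero]
    exact (cls_pairwise hG hw ha hb hab).2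
  have hU : (cls G v w).biUnion (fun t => common G v t) = univ.filter fun z => G.Adj v z := by
    refine eq_of_subset_of_card_le (fun z hz => ?_) ?_
    · obtain ⟨t, -, hz⟩ := mem_biUnion.1 hz
      simp [(mem_common.1 hz).1]
    · rw [deg hG, card_biUnion hdisj, sum_congr rfl fun t ht => card_trace hG (cls_far hw ht),
        sum_const, card_cls hG hw]
      rfl
  have h : common G v u = (cls G v w).biUnion fun t => common G v t ∩ common G v u := by
    rw [← biUnion_inter, hU]
    exact (inter_eq_right.2 fun z hz => by simp [(mem_common.1 hz).1]).symm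
  have hc := congrArg card h
  rw [card_trace hG hu, card_biUnion fun a ha b hb hab =>
    (hdisj ha hb hab).mono inter_subset_left inter_subset_left] at hc
  exact hc.symm

theorem adj_of_disjoint {w t u : V} (hw : w ∈ far G v) (hu : u ∈ far G v) (hnu : u ∉ cls G v w)
    (ht : t ∈ cls G v w) (h : meet G v t u = 0) : G.Adj t u := by
  by_contra hna
  refine hnu (cls_eq hG hw ht ▸ mem_insert_of_mem (mem_filter.2 ⟨mem_erase.2 ⟨?_, hu⟩, hna, h⟩))
  rintro rfl
  exact hnu ht

/-- A trace outside a class meets either each member in one point or none in one point. -/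
theorem all_or_none {w u : V} (hw : w ∈ far G v) (hu : u ∈ far G v) (hnu : u ∉ cls G v w) :
    (∀ t ∈ cls G v w, meet G v t u = 1) ∨ ∀ t ∈ cls G v w, meet G v t u ≠ 1 := by
  by_contra hcon
  push Not at hcon
  obtain ⟨⟨t', ht', hne⟩, t1, ht1, h1⟩ := hcon
  have hle : ∀ t ∈ cls G v w, meet G v t u ≤ 2 := fun t ht =>
    meet_le_two hG (cls_far hw ht) hu fun e => hnu (e ▸ ht)
  have hsum := sum_meet_cls hG hw hu
  have h0 : ∃ t ∈ cls G v w, meet G v t u = 0 := by
    by_contra h
    push Not at h
    have := sum_lt_sum (f := fun _ => 1) (g := fun t => meet G v t u)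
      (fun t ht => Nat.one_le_iff_ne_zero.2 (h t ht))
      ⟨t', ht', (Nat.one_le_iff_ne_zero.2 (h t' ht')).lt_of_ne (Ne.symm hne)⟩
    rw [hsum, sum_const, card_cls hG hw] at this
    simp at this
  have h2 : ∃ t ∈ cls G v w, meet G v t u = 2 := by
    by_contra h
    push Not at h
    obtain ⟨t0, ht0, e0⟩ := h0
    have := sum_lt_sum (f := fun t => meet G v t u) (g := fun _ => 1)
      (s := cls G v w) (fun t ht => by have := hle t ht; have := h t ht; omega)
      ⟨t0, ht0, by omega⟩
    rw [hsum, sum_const, card_cls hG hw] at this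
    simp at this
  obtain ⟨t0, ht0, e0⟩ := h0
  obtain ⟨t2, ht2, e2⟩ := h2
  have n21 : t2 ≠ t1 := fun e => by rw [e, h1] at e2; omega
  have n20 : t2 ≠ t0 := fun e => by rw [e, e0] at e2; omega
  have n10 : t1 ≠ t0 := fun e => by rw [e, e0] at h1; omega
  exact no_mixed hG (cls_far hw ht2) (cls_far hw ht1) (cls_far hw ht0) hu
    (cls_pairwise hG hw ht2 ht1 n21).1 (cls_pairwise hG hw ht2 ht0 n20).1
    (cls_pairwise hG hw ht1 ht0 n10).1 (cls_pairwise hG hw ht2 ht1 n21).2
    (cls_pairwise hG hw ht2 ht0 n20).2 (cls_pairwise hG hw ht1 ht0 n10).2 e2 h1 e0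
    (adj_of_disjoint hG hw hu hnu ht0 e0)

end Classes

end CfsgLib.SmallGroups.SRG77
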