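import Cfsg.Agent.Lib.SmallGroups.SRG77.Cocliques
import Cfsg.Agent.Lib.SmallGroups.SteinerCode22

/-!
# Uniqueness of the graph with parameters `(77, 16, 0, 4)`

The 22 cocliques of size 21 form the points of an `S(3, 6, 22)` whose blocks are the vertices.
-/

set_option autoImplicit false

namespace CfsgLib.SmallGroups.SRG77

open Finset Cfsg

variable {V : Type*} [Fintype V] [DecidableEq V] (G : SimpleGraph V) [DecidableRel G.Adj]

noncomputable instance : DecidablePred (IsMax G) := fun _ => Classical.propDecidable _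

/-- The points. -/
abbrev Pts : Type _ := {X : Finset V // IsMax G X}

/-- The block of a vertex. -/
noncomputable def blk (u : V) : Finset (Pts G) := univ.filter fun X => u ∈ X.1

/-- All blocks. -/
noncomputable def blks : Set (Finset (Pts G)) := Set.range (blk G)

variable {G} (hG : G.IsSRGWith 77 16 0 4)
include hG

theorem card_through (v : V) : (univ.filter fun X : Finset V => IsMax G X ∧ v ∈ X).card = 6 := by
  classical
  set S := univ.filter fun X : Finset V => IsMax G X ∧ v ∈ X with hS
  have h1 : ∑ X ∈ S, ((far G v).filter fun u => u ∈ X).card = 20 * S.card := by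
    rw [sum_congr rfl (g := fun _ => 20) fun X hX => ?_, sum_const, smul_eq_mul, mul_comm]
    obtain ⟨-, hX, hv⟩ := mem_filter.1 hX
    have : ((far G v).filter fun u => u ∈ X) = X.erase v := by
      ext u
      simp only [mem_filter, mem_far, mem_erase]
      exact ⟨fun h => ⟨h.1.1, h.2⟩, fun h => ⟨⟨h.1, hX.2 v hv u h.2⟩, h.2⟩⟩
    rw [this, card_erase_of_mem hv, hX.1]
  simp only [card_filter] at h1
  rw [sum_comm] at h1
  rw [sum_congr rfl (g := fun _ => 2) fun u hu => ?_, sum_const, card_far hG, smul_eq_mul] at h1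
  · omega
  · rw [← card_filter, hS, filter_filter]
    rw [← card_max_through hG hu]
    congr 1
    ext X
    simp [and_assoc]

theorem card_blk (u : V) : (blk G u).card = 6 := by
  classical
  rw [← card_through hG u, blk, ← card_map (Function.Embedding.subtype _)]
  congr 1
  ext X
  simp [and_comm]

theorem card_pts : Fintype.card (Pts G) = 22 := by
  classical
  have h : ∑ u : V, (blk G u).card = ∑ X : Pts G, X.1.card := by
    simp only [blk, card_filter]
    rw [sum_comm]
    refine sum_congr rfl fun X _ => ?_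
    rw [← card_filter, filter_mem_eq_inter, univ_inter]
  rw [sum_congr rfl fun u _ => card_blk hG u, sum_congr rfl fun (X : Pts G) _ => X.2.1, sum_const, sum_const,
    card_univ, card_univ, hG.card, smul_eq_mul, smul_eq_mul] at h
  omega

theorem inter_blk {u w : V} (hne : u ≠ w) :
    (G.Adj u w → blk G u ∩ blk G w = ∅) ∧ (¬ G.Adj u w → (blk G u ∩ blk G w).card = 2) := by
  classical
  refine ⟨fun h => eq_empty_of_forall_notMem fun X hX => ?_, fun h => ?_⟩
  · simp only [blk, mem_inter, mem_filter, mem_univ, true_and] at hX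
    exact X.2.2 u hX.1 w hX.2 h
  · rw [← card_max_through hG (mem_far.2 ⟨hne.symm, h⟩ : w ∈ far G u),
      ← card_map (Function.Embedding.subtype _)]
    congr 1
    ext X
    simp [blk]
    tauto

theorem adj_iff {u w : V} (hne : u ≠ w) : G.Adj u w ↔ Disjoint (blk G u) (blk G w) := by
  rw [disjoint_iff_inter_eq_empty]
  refine ⟨(inter_blk hG hne).1, fun h => ?_⟩
  by_contra hna
  have := (inter_blk hG hne).2 hna
  rw [h, card_empty] at this
  omega

theorem inter_le_two {u w : V} (hne : u ≠ w) : (blk G u ∩ blk G w).card ≤ 2 := by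
  by_cases h : G.Adj u w
  · rw [(inter_blk hG hne).1 h]; simp
  · rw [(inter_blk hG hne).2 h]

theorem blk_injective : Function.Injective (blk G) := fun u w e => by
  by_contra hne
  have h := inter_le_two hG hne
  rw [e, inter_self, card_blk hG] at h
  omega

theorem isSteiner : IsSteinerSystem 3 6 (blks G) := by
  classical
  refine ⟨by rintro _ ⟨u, rfl⟩; exact card_blk hG u, fun s hs => ?_⟩
  let D : Finset (Σ _ : V, Finset (Pts G)) := univ.sigma fun u => powersetCard 3 (blk G u)
  have huniq : ∀ u w : V, ∀ t : Finset (Pts G), t.card = 3 → t ⊆ blk G u → t ⊆ blk G w → u = w :=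
    fun u w t ht h h' => by
      by_contra hne
      have := (card_le_card (subset_inter h h')).trans (inter_le_two hG hne)
      omega
  have hmaps : ∀ x ∈ D, x.2 ∈ powersetCard 3 (univ : Finset (Pts G)) := fun x hx =>
    mem_powersetCard.2 ⟨subset_univ _, (mem_powersetCard.1 (mem_sigma.1 hx).2).2⟩
  have hinj : Set.InjOn (fun x : Σ _ : V, Finset (Pts G) => x.2) D := by
    rintro ⟨m, t⟩ hx ⟨m', t'⟩ hy e
    simp only at e
    subst e
    simp only [D, coe_sigma, Set.mem_sigma_iff, mem_coe, mem_univ, true_and, mem_powersetCard] at hx hy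
    rw [huniq m m' t hx.2 hx.1 hy.1]
  have hcard : (powersetCard 3 (univ : Finset (Pts G))).card ≤ D.card := by
    rw [card_powersetCard, card_univ, card_pts hG, card_sigma,
      sum_congr rfl fun m _ => by rw [card_powersetCard, card_blk hG], sum_const, card_univ, hG.card]
    decide
  obtain ⟨⟨m, t⟩, hD, e⟩ := surj_on_of_inj_on_of_card_le (fun x _ => x.2) hmaps
    (fun x y hx hy h => hinj hx hy h) hcard s (mem_powersetCard.2 ⟨subset_univ _, hs⟩)
  simp only [D, mem_sigma, mem_univ, true_and, mem_powersetCard] at hD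
  dsimp only at e
  subst e
  refine ⟨blk G m, ⟨⟨m, rfl⟩, hD.1⟩, ?_⟩
  rintro _ ⟨⟨m', rfl⟩, hs'⟩
  show blk G m' = blk G m
  rw [huniq m m' _ hs hD.1 hs']

omit hG in
/-- Uniqueness. -/
theorem unique {W : Type*} [Fintype W] [DecidableEq W] {H : SimpleGraph W} [DecidableRel H.Adj]
    (hG : G.IsSRGWith 77 16 0 4) (hH : H.IsSRGWith 77 16 0 4) : Nonempty (G ≃g H) := by
  classical
  obtain ⟨σ, hσ⟩ := SteinerCode.iso22 (card_pts hG) (card_pts hH) (isSteiner hG) (isSteiner hH)
  have hmem : ∀ u : V, (blk G u).image σ ∈ blks H := fun u => hσ ▸ ⟨_, ⟨u, rfl⟩, rfl⟩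
  choose f hf using hmem
  have hfb : Function.Bijective f := by
    refine (Fintype.bijective_iff_injective_and_card f).mpr ⟨fun u w e => ?_, hG.card.trans hH.card.symm⟩
    exact blk_injective hG (image_injective σ.injective ((hf u).symm.trans ((congrArg _ e).trans (hf w))))
  refine ⟨⟨Equiv.ofBijective f hfb, fun {u w} => ?_⟩⟩
  rw [Equiv.ofBijective_apply, Equiv.ofBijective_apply]
  by_cases hne : u = w
  · subst hne; simp
  rw [adj_iff hG hne, adj_iff hH (hfb.1.ne hne), hf, hf, disjoint_image σ.injective]

end CfsgLib.SmallGroups.SRG77
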