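import Mathlib

/-!
# Graphs with parameters `(15, 6, 1, 3)`: every vertex lies in exactly two cocliques of size five
-/

set_option autoImplicit false

namespace CfsgLib.SmallGroups.SRG77

open Finset

variable {V : Type*} [Fintype V] [DecidableEq V] {M : SimpleGraph V} [DecidableRel M.Adj]

namespace Small

theorem deg (hM : M.IsSRGWith 15 6 1 3) (a : V) : (univ.filter fun z => M.Adj a z).card = 6 := by
  rw [← hM.regular a, ← SimpleGraph.card_neighborFinset_eq_degree]
  exact congrArg card (by ext; simp)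

theorem mu (hM : M.IsSRGWith 15 6 1 3) {a b : V} (hne : a ≠ b) (hab : ¬ M.Adj a b) :
    (univ.filter fun z => M.Adj a z ∧ M.Adj b z).card = 3 := by
  rw [← hM.of_not_adj hne hab, ← Set.toFinset_card]
  exact congrArg card (by ext; simp [SimpleGraph.mem_commonNeighbors])

theorem lam (hM : M.IsSRGWith 15 6 1 3) {a b : V} (hab : M.Adj a b) :
    ∃ z, M.Adj a z ∧ M.Adj b z ∧ ∀ z', M.Adj a z' → M.Adj b z' → z' = z := by
  have h : (univ.filter fun z => M.Adj a z ∧ M.Adj b z).card = 1 := by
    rw [← hM.of_adj a b hab, ← Set.toFinset_card]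
    exact congrArg card (by ext; simp [SimpleGraph.mem_commonNeighbors])
  obtain ⟨z, hz⟩ := card_eq_one.1 h
  have hz' : ∀ t, (M.Adj a t ∧ M.Adj b t) ↔ t = z := fun t => by
    rw [← mem_singleton, ← hz]; simp
  exact ⟨z, ((hz' z).2 rfl).1, ((hz' z).2 rfl).2, fun t h1 h2 => (hz' t).1 ⟨h1, h2⟩⟩

theorem lam_unique (hM : M.IsSRGWith 15 6 1 3) {a b z z' : V} (hab : M.Adj a b) (h1 : M.Adj a z)
    (h2 : M.Adj b z) (h3 : M.Adj a z') (h4 : M.Adj b z') : z' = z := by
  obtain ⟨t, -, -, ht⟩ := lam hM hab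
  rw [ht z h1 h2, ht z' h3 h4]

/-- A vertex outside a triangle is joined to one of its vertices. -/
theorem gq (hM : M.IsSRGWith 15 6 1 3) {a b e u : V} (hab : M.Adj a b) (hae : M.Adj a e)
    (hbe : M.Adj b e) (ha : u ≠ a) (hb : u ≠ b) (he : u ≠ e) :
    M.Adj u a ∨ M.Adj u b ∨ M.Adj u e := by
  set T : Finset V := {a, b, e} with hT
  have hT3 : T.card = 3 := card_eq_three.2 ⟨a, b, e, hab.ne, hae.ne, hbe.ne, rfl⟩
  let N : V → Finset V := fun t => (univ.filter fun z => M.Adj t z) \ T
  have hN : ∀ t t' t'' : V, T = {t, t', t''} → M.Adj t t' → M.Adj t t'' → (N t).card = 4 := by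
    intro t t' t'' hTe h1 h2
    have hsub : T ∩ (univ.filter fun z => M.Adj t z) = T.erase t := by
      ext z
      simp only [hTe, mem_inter, mem_insert, mem_singleton, mem_filter, mem_univ, true_and, mem_erase]
      refine ⟨fun h => ⟨fun e => M.irrefl (e ▸ h.2), h.1⟩, ?_⟩
      rintro ⟨hne, h⟩
      refine ⟨h, ?_⟩
      rcases h with rfl | rfl | rfl
      · exact absurd rfl hne
      · exact h1
      · exact h2
    show ((univ.filter fun z => M.Adj t z) \ T).card = 4
    rw [card_sdiff, hsub, deg hM t, card_erase_of_mem (by rw [hTe]; simp), hT3]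
  have hdisj : ∀ t t' s : V, M.Adj t t' → M.Adj t s → M.Adj t' s → s ∈ T →
      Disjoint (N t) (N t') := by
    intro t t' s h1 h2 h3 hs
    rw [disjoint_left]
    intro z hz hz'
    simp only [N, mem_sdiff, mem_filter, mem_univ, true_and] at hz hz'
    exact hz.2 (lam_unique hM h1 h2 h3 hz.1 hz'.1 ▸ hs)
  have hcard : (N a ∪ N b ∪ N e).card = 12 := by
    rw [card_union_of_disjoint (disjoint_union_left.2 ⟨hdisj a e b hae hab hbe.symm (by simp [hT]),
        hdisj b e a hbe hab.symm hae.symm (by simp [hT])⟩),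
      card_union_of_disjoint (hdisj a b e hab hae hbe (by simp [hT])),
      hN a b e rfl hab hae, hN b a e (by rw [hT]; ext; simp; tauto) hab.symm hbe,
      hN e a b (by rw [hT]; ext; simp; tauto) hae.symm hbe.symm]
  have hsub : N a ∪ N b ∪ N e ⊆ univ \ T := fun z hz => by
    simp only [N, mem_union, mem_sdiff] at hz
    simp only [mem_sdiff, mem_univ, true_and]
    tauto
  have heq : N a ∪ N b ∪ N e = univ \ T := eq_of_subset_of_card_le hsub (by
    rw [hcard, card_univ_diff, hM.card, hT3])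
  have hu : u ∈ N a ∪ N b ∪ N e := heq ▸ (by simp [hT, ha, hb, he])
  simp only [N, mem_union, mem_sdiff, mem_filter, mem_univ, true_and] at hu
  rcases hu with (h | h) | h
  · exact Or.inl h.1.symm
  · exact Or.inr (Or.inl h.1.symm)
  · exact Or.inr (Or.inr h.1.symm)

section Local

variable (hM : M.IsSRGWith 15 6 1 3) (c : V)

/-- The vertices not joined to `c`. -/
def out : Finset V := univ.filter fun u => u ≠ c ∧ ¬ M.Adj c u

theorem mem_out {u : V} : u ∈ out (M := M) c ↔ u ≠ c ∧ ¬ M.Adj c u := by simp [out]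

include hM

theorem card_out : (out (M := M) c).card = 8 := by
  have h : out (M := M) c = univ \ insert c (univ.filter fun z => M.Adj c z) := by
    ext; simp [out]
  rw [h, card_univ_diff, hM.card, card_insert_of_notMem (by simp), deg hM]

theorem deg_out {w : V} (hw : w ∈ out (M := M) c) :
    ((out (M := M) c).filter fun z => M.Adj w z).card = 3 := by
  obtain ⟨hwc, hna⟩ := (mem_out c).1 hw
  have h := card_filter_add_card_filter_not (s := univ.filter fun z => M.Adj w z) (fun z => M.Adj c z)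
  rw [deg hM, filter_filter, filter_filter,
    show (univ.filter fun z => M.Adj w z ∧ M.Adj c z).card = 3 from mu hM hwc (fun h => hna h.symm),
    show (univ.filter fun z => M.Adj w z ∧ ¬ M.Adj c z) = (out (M := M) c).filter (fun z => M.Adj w z) from ?_] at h
  · omega
  · ext z
    simp only [mem_filter, mem_univ, true_and, mem_out]
    exact ⟨fun h => ⟨⟨fun e => hna (e ▸ h.1).symm, h.2⟩, h.1⟩, fun h => ⟨h.2, h.1.2⟩⟩

/-- An edge among the vertices not joined to `c` has its triangle through a neighbour of `c`. -/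
theorem third {w x : V} (hw : w ∈ out (M := M) c) (hx : x ∈ out (M := M) c) (hwx : M.Adj w x) :
    ∃ n, M.Adj c n ∧ M.Adj w n ∧ M.Adj x n := by
  obtain ⟨z, hwz, hxz, -⟩ := lam hM hwx
  obtain ⟨hwc, hnw⟩ := (mem_out c).1 hw
  obtain ⟨hxc, hnx⟩ := (mem_out c).1 hx
  have hzc : c ≠ z := fun e => hnw (e ▸ hwz.symm)
  rcases gq hM hwx hwz hxz (Ne.symm hwc) (Ne.symm hxc) hzc with h | h | h
  · exact absurd h hnw
  · exact absurd h hnx
  · exact ⟨z, h, hwz, hxz⟩

/-- The neighbours of `c` joined to a neighbour `x` of `w` are the triangle point and the two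
points off `w` outside its line. -/
theorem trace {w x n n' : V} (hw : w ∈ out (M := M) c) (hx : x ∈ out (M := M) c) (hwx : M.Adj w x)
    (hn : M.Adj c n ∧ M.Adj w n ∧ M.Adj x n) (hn' : M.Adj c n' ∧ M.Adj n n') :
    ∀ p, M.Adj c p → ¬ M.Adj w p → p ≠ n' → M.Adj x p := by
  obtain ⟨hwc, hnw⟩ := (mem_out c).1 hw
  obtain ⟨hxc, hnx⟩ := (mem_out c).1 hx
  have hC3 : (univ.filter fun z => M.Adj c z ∧ ¬ M.Adj w z).card = 3 := by
    have h := card_filter_add_card_filter_not (s := univ.filter fun z => M.Adj c z) (fun z => M.Adj w z)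
    rw [deg hM, filter_filter, filter_filter,
      show (univ.filter fun z => M.Adj c z ∧ M.Adj w z).card = 3 from mu hM (Ne.symm hwc) hnw] at h
    omega
  set Cp := univ.filter fun z => M.Adj c z ∧ ¬ M.Adj w z
  have hCp : Cp.card = 3 := hC3
  set X := (univ.filter fun z => M.Adj c z ∧ M.Adj x z).erase n
  have hX : X.card = 2 := by
    rw [card_erase_of_mem (by simp [hn.1, hn.2.2]), mu hM (Ne.symm hxc) hnx]
  have hn'Cp : n' ∈ Cp := by
    simp only [Cp, mem_filter, mem_univ, true_and]
    exact ⟨hn'.1, fun h => hwc (lam_unique hM hn'.2 hn.1.symm hn'.1.symm hn.2.1.symm h.symm)⟩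
  have hsub : X ⊆ Cp.erase n' := by
    intro z hz
    simp only [X, mem_erase, mem_filter, mem_univ, true_and] at hz
    simp only [Cp, mem_erase, mem_filter, mem_univ, true_and]
    refine ⟨fun e => ?_, hz.2.1, fun h => hz.1 (lam_unique hM hwx hn.2.1 hn.2.2 h hz.2.2)⟩
    subst e
    exact hxc (lam_unique hM hn'.2 hn.1.symm hn'.1.symm hn.2.2.symm hz.2.2.symm)
  have heq : X = Cp.erase n' := eq_of_subset_of_card_le hsub (by rw [card_erase_of_mem hn'Cp, hCp, hX])
  intro p hp hpw hpn
  have : p ∈ X := heq ▸ (by simp [Cp, hp, hpw, hpn])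
  simp only [X, mem_erase, mem_filter, mem_univ, true_and] at this
  exact this.2.2

/-- Four pairwise non-adjacent vertices not joined to `c`. -/
theorem exists_four : ∃ I ⊆ out (M := M) c, I.card = 4 ∧ ∀ a ∈ I, ∀ b ∈ I, ¬ M.Adj a b := by
  obtain ⟨w, hw⟩ : (out (M := M) c).Nonempty := card_pos.1 (by rw [card_out hM]; norm_num)
  have hX3 := deg_out hM c hw
  set X := (out (M := M) c).filter fun z => M.Adj w z with hX
  obtain ⟨hwc, hnw⟩ := (mem_out c).1 hw
  have hXo : ∀ x ∈ X, x ∈ out (M := M) c ∧ M.Adj w x := fun x hx => mem_filter.1 hx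
  choose! n hn using fun (x : V) (hx : x ∈ X) => third hM c hw (hXo x hx).1 (hXo x hx).2
  have hn' : ∀ x ∈ X, ∃ m, M.Adj c m ∧ M.Adj (n x) m ∧ ¬ M.Adj w m := by
    intro x hx
    obtain ⟨m, h1, h2, -⟩ := lam hM (hn x hx).1
    exact ⟨m, h1, h2,
      fun h => hwc (lam_unique hM h2 (hn x hx).1.symm h1.symm (hn x hx).2.1.symm h.symm)⟩
  choose! n' hn' using hn'
  have hninj : ∀ x ∈ X, ∀ y ∈ X, n x = n y → x = y := fun x hx y hy e =>
    lam_unique hM (hn y hy).2.1 (hXo y hy).2 (hn y hy).2.2.symm (hXo x hx).2 (e ▸ (hn x hx).2.2.symm)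
  have hn'inj : ∀ x ∈ X, ∀ y ∈ X, n' x = n' y → x = y := fun x hx y hy e => hninj x hx y hy
    (lam_unique hM (hn' y hy).1 (hn y hy).1 (hn' y hy).2.1.symm (hn x hx).1 (e ▸ (hn' x hx).2.1.symm))
  have hXind : ∀ x ∈ X, ∀ y ∈ X, ¬ M.Adj x y := by
    intro x hx y hy hxy
    have h1 : n x = y := lam_unique hM (hXo x hx).2 (hXo y hy).2 hxy (hn x hx).2.1 (hn x hx).2.2
    exact ((mem_out c).1 (hXo y hy).1).2 (h1 ▸ (hn x hx).1)
  have htr : ∀ x ∈ X, ∀ y ∈ X, x ≠ y → M.Adj x (n' y) := fun x hx y hy hne =>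
    trace hM c hw (hXo x hx).1 (hXo x hx).2 (hn x hx) ⟨(hn' x hx).1, (hn' x hx).2.1⟩ _
      (hn' y hy).1 (hn' y hy).2.2 (fun e => hne (hn'inj y hy x hx e).symm)
  have hu : ∀ x ∈ X, ∀ y ∈ X, x ≠ y →
      ∃ u ∈ out (M := M) c, u ≠ w ∧ M.Adj x u ∧ M.Adj y u := by
    intro x hx y hy hne
    set S := univ.filter fun z => M.Adj x z ∧ M.Adj y z
    have hS : S.card = 3 := mu hM hne (hXind x hx y hy)
    have hxc := ((mem_out c).1 (hXo x hx).1).2
    have hle : (S.filter fun z => M.Adj c z).card ≤ 1 := by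
      rw [card_le_one]
      intro a ha b hb
      simp only [S, mem_filter, mem_univ, true_and] at ha hb
      -- two common traces would meet in the third line
      obtain ⟨z, hz⟩ : ∃ z ∈ X, z ≠ x ∧ z ≠ y := by
        have : ((X.erase x).erase y).Nonempty := card_pos.1 (by
          rw [card_erase_of_mem (mem_erase.2 ⟨hne.symm, hy⟩), card_erase_of_mem hx, hX3]; norm_num)
        obtain ⟨z, hz⟩ := this
        simp only [mem_erase] at hz
        exact ⟨z, hz.2.2, hz.2.1, hz.1⟩
      have key : ∀ a, (M.Adj x a ∧ M.Adj y a) ∧ M.Adj c a → a = n' z := by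
        intro a ha
        have hwa : ¬ M.Adj w a := fun h => hne (hninj x hx y hy
          ((lam_unique hM (hXo x hx).2 (hn x hx).2.1 (hn x hx).2.2 h ha.1.1).symm.trans
            (lam_unique hM (hXo y hy).2 (hn y hy).2.1 (hn y hy).2.2 h ha.1.2)))
        have hsub : X.image n' ⊆ univ.filter fun q => M.Adj c q ∧ ¬ M.Adj w q := by
          intro q hq
          obtain ⟨t, ht, rfl⟩ := mem_image.1 hq
          simp [(hn' t ht).1, (hn' t ht).2.2]
        have hc3 : (univ.filter fun q => M.Adj c q ∧ ¬ M.Adj w q).card = 3 := by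
          have h := card_filter_add_card_filter_not (s := univ.filter fun z => M.Adj c z)
            (fun z => M.Adj w z)
          rw [deg hM, filter_filter, filter_filter,
            show (univ.filter fun z => M.Adj c z ∧ M.Adj w z).card = 3 from
              mu hM (Ne.symm hwc) hnw] at h
          omega
        have heq := eq_of_subset_of_card_le hsub (by
          rw [hc3, card_image_of_injOn (fun p hp q hq e => hn'inj p hp q hq e), hX3])
        obtain ⟨t, ht, rfl⟩ := mem_image.1
          (heq ▸ (by simp [ha.2, hwa]) : a ∈ X.image n')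
        have hbad : ∀ t ∈ X, ¬ M.Adj t (n' t) := fun t ht h =>
          ((mem_out c).1 (hXo t ht).1).1
            (lam_unique hM (hn' t ht).2.1 (hn t ht).1.symm (hn' t ht).1.symm (hn t ht).2.2.symm h.symm)
        have htx : t ≠ x := fun e => hbad t ht (by rw [e]; exact e ▸ ha.1.1)
        have hty : t ≠ y := fun e => hbad t ht (by rw [e]; exact e ▸ ha.1.2)
        by_contra hne'
        have h4 : ({x, y, z, t} : Finset V).card ≤ X.card := card_le_card (by
          simp [insert_subset_iff, hx, hy, hz.1, ht])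
        rw [hX3, card_insert_of_notMem, card_insert_of_notMem, card_insert_of_notMem, card_singleton] at h4
        · omega
        · simp only [mem_singleton]; exact fun e => hne' (e ▸ rfl)
        · simp [hz.2.2.symm, hty.symm]
        · simp [hne, hz.2.1.symm, htx.symm]
      exact (key a ha).trans (key b hb).symm
    obtain ⟨u, hu⟩ : ((S.filter fun z => ¬ M.Adj c z).erase w).Nonempty := by
      apply card_pos.1
      have h := card_filter_add_card_filter_not (s := S) (fun z => M.Adj c z)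
      have h2 := pred_card_le_card_erase (s := S.filter fun z => ¬ M.Adj c z) (a := w)
      omega
    simp only [S, mem_erase, mem_filter, mem_univ, true_and] at hu
    exact ⟨u, (mem_out c).2 ⟨fun e => hxc (e ▸ hu.2.1.1).symm, hu.2.2⟩, hu.1, hu.2.1.1, hu.2.1.2⟩
  have hno3 : ∀ u, u ≠ w → u ∈ out (M := M) c → ∀ x ∈ X, ∀ y ∈ X, ∀ z ∈ X, x ≠ y → x ≠ z → y ≠ z →
      M.Adj x u → M.Adj y u → M.Adj z u → False := by
    intro u huw hu x hx y hy z hz hxy hxz hyz h1 h2 h3
    obtain ⟨p, hpc, hxp, hup⟩ := third hM c (hXo x hx).1 hu h1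
    obtain ⟨hxc, hnx⟩ := (mem_out c).1 (hXo x hx).1
    have hpn : p ≠ n x := fun e => huw
      (lam_unique hM (hn x hx).2.2 (hXo x hx).2.symm (hn x hx).2.1.symm h1 (e ▸ hup.symm))
    have hwp : ¬ M.Adj w p := fun h =>
      hpn (lam_unique hM (hXo x hx).2 (hn x hx).2.1 (hn x hx).2.2 h hxp)
    have key : ∀ t ∈ X, x ≠ t → M.Adj t u → ¬ M.Adj t p := fun t ht hxt htu htp =>
      hxt (lam_unique hM hup h1.symm hxp.symm htu.symm htp.symm).symm
    have hmem : p ∈ X.image n' := by
      have hsub : X.image n' ⊆ univ.filter fun q => M.Adj c q ∧ ¬ M.Adj w q := by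
        intro q hq
        obtain ⟨t, ht, rfl⟩ := mem_image.1 hq
        simp [(hn' t ht).1, (hn' t ht).2.2]
      have hc3 : (univ.filter fun q => M.Adj c q ∧ ¬ M.Adj w q).card = 3 := by
        have h := card_filter_add_card_filter_not (s := univ.filter fun z => M.Adj c z)
          (fun z => M.Adj w z)
        rw [deg hM, filter_filter, filter_filter,
          show (univ.filter fun z => M.Adj c z ∧ M.Adj w z).card = 3 from
            mu hM (Ne.symm hwc) hnw] at h
        omega
      rw [eq_of_subset_of_card_le hsub (by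
        rw [hc3, card_image_of_injOn (fun p hp q hq e => hn'inj p hp q hq e), hX3])]
      simp [hpc, hwp]
    obtain ⟨t, ht, rfl⟩ := mem_image.1 hmem
    by_cases hty : t = y
    · subst hty; exact key z hz hxz h3 (htr z hz t ht hyz.symm)
    · exact key y hy hxy h2 (htr y hy t ht (Ne.symm hty))
  obtain ⟨x, y, z, hxy, hxz, hyz, hXe⟩ := card_eq_three.1 hX3
  have hx : x ∈ X := hXe ▸ (by simp)
  have hy : y ∈ X := hXe ▸ (by simp)
  have hz : z ∈ X := hXe ▸ (by simp)
  obtain ⟨a, hao, haw, hax, hay⟩ := hu x hx y hy hxy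
  obtain ⟨b, hbo, hbw, hbx, hbz⟩ := hu x hx z hz hxz
  obtain ⟨d, hdo, hdw, hdy, hdz⟩ := hu y hy z hz hyz
  have hab : a ≠ b := fun e => hno3 a haw hao x hx y hy z hz hxy hxz hyz hax hay (e ▸ hbz)
  have had : a ≠ d := fun e => hno3 a haw hao x hx y hy z hz hxy hxz hyz hax hay (e ▸ hdz)
  have hbd : b ≠ d := fun e => hno3 b hbw hbo x hx y hy z hz hxy hxz hyz hbx (e ▸ hdy) hbz
  have hfree : ∀ p q r : V, p ∈ out (M := M) c → q ∈ out (M := M) c → r ∈ out (M := M) c →
      M.Adj r p → M.Adj r q → ¬ M.Adj p q := by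
    intro p q r hp hq hr h1 h2 h3
    obtain ⟨m, hm1, hm2, hm3⟩ := third hM c hr hp h1
    exact ((mem_out c).1 hq).2 (lam_unique hM h1 hm2 hm3 h2 h3 ▸ hm1)
  have hout : ∀ t ∈ X, t ∈ out (M := M) c := fun t ht => (hXo t ht).1
  refine ⟨{w, a, b, d}, by simp [insert_subset_iff, hw, hao, hbo, hdo],
    card_eq_four.2 ⟨w, a, b, d, haw.symm, hbw.symm, hdw.symm, hab, had, hbd, rfl⟩, ?_⟩
  have e1 := hfree w a x hw hao (hout x hx) (hXo x hx).2.symm hax
  have e2 := hfree w b x hw hbo (hout x hx) (hXo x hx).2.symm hbx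
  have e3 := hfree w d y hw hdo (hout y hy) (hXo y hy).2.symm hdy
  have e4 := hfree a b x hao hbo (hout x hx) hax hbx
  have e5 := hfree a d y hao hdo (hout y hy) hay hdy
  have e6 := hfree b d z hbo hdo (hout z hz) hbz hdz
  intro p hp q hq
  simp only [mem_insert, mem_singleton] at hp hq
  rcases hp with rfl | rfl | rfl | rfl <;> rcases hq with rfl | rfl | rfl | rfl <;>
    first | exact M.irrefl | assumption | (rw [M.adj_comm]; assumption)

/-- There are exactly two cocliques of size five through `c`. -/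
theorem card_cocliques : ((univ.powersetCard 5).filter fun I : Finset V =>
    c ∈ I ∧ ∀ a ∈ I, ∀ b ∈ I, ¬ M.Adj a b).card = 2 := by
  obtain ⟨I0, hI0, hI0c, hI0i⟩ := exists_four hM c
  set W := out (M := M) c with hW
  set I1 := W \ I0 with hI1
  have hI1c : I1.card = 4 := by rw [hI1, card_sdiff_of_subset hI0, hI0c, card_out hM]
  have hnb0 : ∀ a ∈ I0, W.filter (fun z => M.Adj a z) ⊆ I1 := fun a ha z hz => by
    rw [mem_filter] at hz
    exact mem_sdiff.2 ⟨hz.1, fun h => hI0i a ha z h hz.2⟩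
  have hcount : ∑ b ∈ I1, (I0.filter fun a => M.Adj b a).card = 12 := by
    have h1 : ∑ a ∈ I0, (I1.filter fun b => M.Adj a b).card = 12 := by
      rw [sum_congr rfl (g := fun _ => (3 : ℕ)) fun a ha => ?_, sum_const, hI0c]
      · rfl
      show (I1.filter fun b => M.Adj a b).card = 3
      rw [← deg_out hM c (hI0 ha)]
      congr 1
      refine Subset.antisymm (filter_subset_filter _ sdiff_subset) fun z hz => ?_
      exact mem_filter.2 ⟨hnb0 a ha hz, (mem_filter.1 hz).2⟩
    rw [← h1]
    simp only [card_filter]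
    rw [sum_comm]
    simp [M.adj_comm]
  have hle : ∀ b ∈ I1, (I0.filter fun a => M.Adj b a).card ≤ 3 := fun b hb => by
    rw [← deg_out hM c (sdiff_subset hb)]
    exact card_le_card (filter_subset_filter _ hI0)
  have hnb1 : ∀ b ∈ I1, W.filter (fun z => M.Adj b z) = I0.filter fun a => M.Adj b a := by
    intro b hb
    refine (eq_of_subset_of_card_le (filter_subset_filter _ hI0) ?_).symm
    rw [deg_out hM c (sdiff_subset hb)]
    by_contra hlt
    have h := sum_lt_sum hle ⟨b, hb, by omega⟩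
    rw [hcount, sum_const, hI1c] at h
    simp at h
  have hI1i : ∀ a ∈ I1, ∀ b ∈ I1, ¬ M.Adj a b := fun a ha b hb h => by
    have h1 : b ∈ I0.filter fun z => M.Adj a z := hnb1 a ha ▸ mem_filter.2 ⟨sdiff_subset hb, h⟩
    exact (mem_sdiff.1 hb).2 (mem_filter.1 h1).1
  have hcW : c ∉ W := by simp [hW, mem_out]
  have hset : ((univ.powersetCard 5).filter fun I : Finset V =>
      c ∈ I ∧ ∀ a ∈ I, ∀ b ∈ I, ¬ M.Adj a b) = {insert c I0, insert c I1} := by
    ext I
    simp only [mem_filter, mem_powersetCard, subset_univ, true_and, mem_insert, mem_singleton]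
    constructor
    · rintro ⟨hI5, hcI, hI⟩
      set J := I.erase c with hJ
      have hJ4 : J.card = 4 := by rw [hJ, card_erase_of_mem hcI, hI5]
      have hJW : J ⊆ W := fun z hz => by
        rw [hJ, mem_erase] at hz
        exact (mem_out c).2 ⟨hz.1, hI c hcI z hz.2⟩
      have hJi : ∀ a ∈ J, ∀ b ∈ J, ¬ M.Adj a b := fun a ha b hb =>
        hI a (mem_of_mem_erase ha) b (mem_of_mem_erase hb)
      have hins : insert c J = I := insert_erase hcI
      have hIeq : ∀ T : Finset V, T.card = 4 → J ⊆ T → I = insert c T := fun T hT h => by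
        rw [← hins, eq_of_subset_of_card_le h (by rw [hT, hJ4])]
      by_cases h0 : J ⊆ I0
      · exact Or.inl (hIeq I0 hI0c h0)
      by_cases h1 : J ⊆ I1
      · exact Or.inr (hIeq I1 hI1c h1)
      exfalso
      obtain ⟨b, hbJ, hb0⟩ := not_subset.1 h0
      obtain ⟨a, haJ, ha1⟩ := not_subset.1 h1
      have ha0 : a ∈ I0 := by
        by_contra h; exact ha1 (mem_sdiff.2 ⟨hJW haJ, h⟩)
      have hb1 : b ∈ I1 := mem_sdiff.2 ⟨hJW hbJ, hb0⟩
      have hA : J ∩ I1 ⊆ {b} := by
        intro z hz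
        rw [mem_inter] at hz
        rw [mem_singleton]
        by_contra hzb
        have h3 : (W.filter fun t => M.Adj a t) ⊆ (I1.erase b).erase z := fun t ht => by
          refine mem_erase.2 ⟨fun e => hJi a haJ z hz.1 (e ▸ (mem_filter.1 ht).2),
            mem_erase.2 ⟨fun e => hJi a haJ b hbJ (e ▸ (mem_filter.1 ht).2), hnb0 a ha0 ht⟩⟩
        have h4 := card_le_card h3
        rw [deg_out hM c (hI0 ha0), card_erase_of_mem (mem_erase.2 ⟨hzb, hz.2⟩),
          card_erase_of_mem hb1, hI1c] at h4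
        omega
      have hB : J ∩ I0 ⊆ {a} := by
        intro z hz
        rw [mem_inter] at hz
        rw [mem_singleton]
        by_contra hza
        have h3 : (W.filter fun t => M.Adj b t) ⊆ (I0.erase a).erase z := fun t ht => by
          have ht0 := (mem_filter.1 (hnb1 b hb1 ▸ ht)).1
          refine mem_erase.2 ⟨fun e => hJi b hbJ z hz.1 (e ▸ (mem_filter.1 ht).2),
            mem_erase.2 ⟨fun e => hJi b hbJ a haJ (e ▸ (mem_filter.1 ht).2), ht0⟩⟩
        have h4 := card_le_card h3
        rw [deg_out hM c (sdiff_subset hb1), card_erase_of_mem (mem_erase.2 ⟨hza, hz.2⟩),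
          card_erase_of_mem ha0, hI0c] at h4
        omega
      have h5 : J ⊆ (J ∩ I1) ∪ (J ∩ I0) := fun z hz => by
        by_cases h : z ∈ I0
        · exact mem_union_right _ (mem_inter.2 ⟨hz, h⟩)
        · exact mem_union_left _ (mem_inter.2 ⟨hz, mem_sdiff.2 ⟨hJW hz, h⟩⟩)
      have h6 := (card_le_card h5).trans (card_union_le _ _)
      have h7 := card_le_card hA
      have h8 := card_le_card hB
      rw [card_singleton] at h7 h8
      omega
    · have key : ∀ T : Finset V, T ⊆ W → T.card = 4 → (∀ a ∈ T, ∀ b ∈ T, ¬ M.Adj a b) →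
          (insert c T).card = 5 ∧ c ∈ insert c T ∧ ∀ a ∈ insert c T, ∀ b ∈ insert c T, ¬ M.Adj a b := by
        intro T hT hT4 hTi
        refine ⟨by rw [card_insert_of_notMem fun h => hcW (hT h), hT4], mem_insert_self _ _, ?_⟩
        intro a ha b hb
        rcases mem_insert.1 ha with e | ha2 <;> rcases mem_insert.1 hb with e' | hb2
        · subst e e'; exact M.irrefl
        · subst e; exact ((mem_out a).1 (hT hb2)).2
        · subst e'; exact fun h => ((mem_out b).1 (hT ha2)).2 h.symm
        · exact hTi a ha2 b hb2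
      rintro (rfl | rfl)
      · exact key I0 hI0 hI0c hI0i
      · exact key I1 sdiff_subset hI1c hI1i
  rw [hset, card_pair]
  intro e
  obtain ⟨a, ha⟩ := card_pos.1 (by rw [hI0c]; norm_num : 0 < I0.card)
  have : a ∈ insert c I1 := e ▸ mem_insert_of_mem ha
  rcases mem_insert.1 this with rfl | h
  · exact hcW (hI0 ha)
  · exact (mem_sdiff.1 h).2 ha

end Local

end Small

end CfsgLib.SmallGroups.SRG77
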